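/-
Project SY (S1770, helper75): Sylow 2-subgroups of type `G₂(q)`, `³D₄(q)`, `q` even.  Coordinates and named steps.
-/
import Cfsg.Agent.Even.Amb
import Cfsg.Agent.Grp.SylowIn
import Cfsg.Statements.S1770

set_option autoImplicit false

namespace CL.SY

open Subgroup Cfsg CL.Even CL.Grp
open scoped commutatorElement

universe u

/-- a cubic or trivial extension with trace and norm -/
structure Fd (F K : Type) [Field F] [Field K] [Algebra F K] where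
  σ : K ≃ₐ[F] K
  T : K →ₗ[F] F
  N : K → F
  s3 : ∀ x, σ (σ (σ x)) = x
  hT : ∀ x, algebraMap F K (T x) = x + σ x + σ (σ x)
  hN : ∀ x, algebraMap F K (N x) = x * σ x * σ (σ x)

variable {F K : Type} [Field F] [Field K] [Algebra F K]

namespace Fd

variable (𝒟 : Fd F K)

def adj (x : K) : K := 𝒟.σ x * 𝒟.σ (𝒟.σ x)
def cr (x y : K) : K := 𝒟.σ x * 𝒟.σ (𝒟.σ y) + 𝒟.σ (𝒟.σ x) * 𝒟.σ y
/-- type `G₂(q)`, `q ≥ 4` -/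
def G2 : Prop := (∀ x, 𝒟.σ x = x) ∧ 4 ≤ Nat.card F
/-- type `³D₄(q)` -/
def D4 (_ : Fd F K) : Prop := Module.finrank F K = 3

structure Ok : Prop where
  finK : Finite K
  fix : ∀ x, 𝒟.σ x = x → ∃ c, algebraMap F K c = x
  kind : 𝒟.G2 ∨ 𝒟.D4

/-- linear algebra of the cubic norm form -/
structure LA : Prop extends 𝒟.Ok where
  nd : ∀ x, (∀ y, 𝒟.T (x * y) = 0) → x = 0
  surj : ∀ x, x ≠ 0 → ∀ c, ∃ y, 𝒟.T (x * y) = c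
  N0 : ∀ x, 𝒟.N x = 0 → x = 0
  cr0 : ∀ x y, x ≠ 0 → 𝒟.cr x y = 0 → ∃ c : F, y = c • x
  perp : ∀ x b, x ≠ 0 → 𝒟.T (x * b) = 0 → ∃ d, b = 𝒟.cr x d
  perp2 : ∀ x y b, 𝒟.cr x y ≠ 0 → 𝒟.T (x * b) = 0 → 𝒟.T (y * b) = 0 → ∃ c : F, b = c • 𝒟.cr x y
  det0 : ∀ x y z, 𝒟.cr x y ≠ 0 → 𝒟.T (z * 𝒟.cr x y) = 0 → ∃ c c' : F, z = c • x + c' • y
  zL : ∀ b d, (∀ v, 𝒟.cr v d = 0 ∧ 𝒟.T (v * b) = 𝒟.T (𝒟.adj v * d)) → b = 0 ∧ d = 0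
  ex2 : 𝒟.D4 → ∀ b, b ≠ 0 → ∃ x y, 𝒟.T (x * b) = 0 ∧ 𝒟.T (y * b) = 0 ∧ 𝒟.cr x y = b
  exd : 𝒟.D4 → ∀ x y, 𝒟.cr x y ≠ 0 → ∃ z, 𝒟.T (z * 𝒟.cr x y) = 1
  card : 𝒟.G2 ∧ Nat.card K = Nat.card F ∨ 𝒟.D4 ∧ Nat.card K = Nat.card F ^ 3
  four : 4 ≤ Nat.card K

end Fd

/-- `x₀(v) x₁(a) x₂(b) x₃(c) x₄(d) x₅(t)` -/
@[ext] structure Pt (𝒟 : Fd F K) where
  v : K
  a : F
  b : K
  c : F
  d : K
  t : F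

namespace Pt

variable {𝒟 : Fd F K}

instance : Mul (Pt 𝒟) := ⟨fun p q =>
  ⟨p.v + q.v, p.a + 𝒟.T (q.v * p.b) + 𝒟.T (𝒟.adj q.v * p.d) + p.t * 𝒟.N q.v + q.a,
    p.b + 𝒟.cr q.v p.d + p.t • 𝒟.adj q.v + q.b,
    p.c + 𝒟.T (𝒟.adj p.d * q.v) + p.t ^ 2 * 𝒟.N q.v + p.t * 𝒟.T (p.d * 𝒟.adj q.v) + q.c + p.t * q.a +
      𝒟.T ((p.d + p.t • q.v) * q.b),
    p.d + p.t • q.v + q.d, p.t + q.t⟩⟩
instance : One (Pt 𝒟) := ⟨⟨0, 0, 0, 0, 0, 0⟩⟩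
instance : Inv (Pt 𝒟) := ⟨fun p => ⟨0, p.a, p.b, p.c + p.t * p.a + 𝒟.T (p.d * p.b), p.d, p.t⟩ * ⟨p.v, 0, 0, 0, 0, 0⟩⟩

theorem mul_v (p q : Pt 𝒟) : (p * q).v = p.v + q.v := rfl
theorem mul_a (p q : Pt 𝒟) : (p * q).a =
    p.a + 𝒟.T (q.v * p.b) + 𝒟.T (𝒟.adj q.v * p.d) + p.t * 𝒟.N q.v + q.a := rfl
theorem mul_b (p q : Pt 𝒟) : (p * q).b = p.b + 𝒟.cr q.v p.d + p.t • 𝒟.adj q.v + q.b := rfl
theorem mul_c (p q : Pt 𝒟) : (p * q).c = p.c + 𝒟.T (𝒟.adj p.d * q.v) + p.t ^ 2 * 𝒟.N q.v +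
    p.t * 𝒟.T (p.d * 𝒟.adj q.v) + q.c + p.t * q.a + 𝒟.T ((p.d + p.t • q.v) * q.b) := rfl
theorem mul_d (p q : Pt 𝒟) : (p * q).d = p.d + p.t • q.v + q.d := rfl
theorem mul_t (p q : Pt 𝒟) : (p * q).t = p.t + q.t := rfl
theorem one_def : (1 : Pt 𝒟) = ⟨0, 0, 0, 0, 0, 0⟩ := rfl
theorem inv_def (p : Pt 𝒟) :
    p⁻¹ = ⟨0, p.a, p.b, p.c + p.t * p.a + 𝒟.T (p.d * p.b), p.d, p.t⟩ * ⟨p.v, 0, 0, 0, 0, 0⟩ := rfl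

theorem ext2 {p q : Pt 𝒟} (h0 : p.v = q.v) (h1 : algebraMap F K p.a = algebraMap F K q.a) (h2 : p.b = q.b)
    (h3 : algebraMap F K p.c = algebraMap F K q.c) (h4 : p.d = q.d) (h5 : algebraMap F K p.t = algebraMap F K q.t) :
    p = q :=
  Pt.ext h0 ((algebraMap F K).injective h1) h2 ((algebraMap F K).injective h3) h4 ((algebraMap F K).injective h5)

end Pt

theorem Fd.inj (_ : Fd F K) {a b : F} (h : algebraMap F K a = algebraMap F K b) : a = b := (algebraMap F K).injective h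

/-- expand an identity between coordinates inside `K` (for goals in `F` first `apply 𝒟.inj`; finish with `grind`) -/
macro "pt_push" : tactic => `(tactic|
  simp only [commutatorElement_def, Pt.mul_v, Pt.mul_a, Pt.mul_b, Pt.mul_c, Pt.mul_d, Pt.mul_t, Pt.one_def, Pt.inv_def,
    Fd.adj, Fd.cr, Algebra.smul_def, map_add, map_mul, map_pow, map_zero, map_one, Fd.hT, Fd.hN, Fd.s3,
    AlgEquiv.commutes])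

/-- prove an identity in `Pt` -/
macro "pt_ext" : tactic => `(tactic| (apply Pt.ext2 <;> pt_push <;> grind))

variable [CharP K 2]

instance (𝒟 : Fd F K) : Group (Pt 𝒟) :=
  Group.ofLeftAxioms (fun _ _ _ => by pt_ext) (fun _ => by pt_ext) fun _ => by pt_ext

namespace Fd

variable (𝒟 : Fd F K)

omit [CharP K 2] in
theorem cr_comm (x y : K) : 𝒟.cr x y = 𝒟.cr y x := by pt_push; ring
omit [CharP K 2] in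
theorem cr_add (x y z : K) : 𝒟.cr x (y + z) = 𝒟.cr x y + 𝒟.cr x z := by pt_push; ring
omit [CharP K 2] in
theorem cr_smul (c : F) (x y : K) : 𝒟.cr x (c • y) = c • 𝒟.cr x y := by pt_push; ring
omit [CharP K 2] in
theorem cr_zero (x : K) : 𝒟.cr x 0 = 0 := by pt_push; ring
theorem cr_self (x : K) : 𝒟.cr x x = 0 := by pt_push; grind
omit [CharP K 2] in
theorem adj_add (x y : K) : 𝒟.adj (x + y) = 𝒟.adj x + 𝒟.adj y + 𝒟.cr x y := by pt_push; ring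
omit [CharP K 2] in
theorem adj_smul (c : F) (x : K) : 𝒟.adj (c • x) = c ^ 2 • 𝒟.adj x := by pt_push; ring
omit [CharP K 2] in
theorem adj_zero : 𝒟.adj 0 = 0 := by pt_push; ring
omit [CharP K 2] in
theorem N_zero : 𝒟.N 0 = 0 := 𝒟.inj (by pt_push; ring)
omit [CharP K 2] in
theorem N_smul (c : F) (x : K) : 𝒟.N (c • x) = c ^ 3 * 𝒟.N x := 𝒟.inj (by pt_push; ring)
theorem T_adj (x : K) : 𝒟.T (𝒟.adj x * x) = 𝒟.N x := 𝒟.inj (by pt_push; grind)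
theorem T_map (c : F) : 𝒟.T (algebraMap F K c) = c := 𝒟.inj (by pt_push; grind)
theorem T_cr_self (x y : K) : 𝒟.T (x * 𝒟.cr x y) = 0 := 𝒟.inj (by pt_push; grind)
omit [CharP K 2] in
theorem T_cr (x y z : K) : 𝒟.T (x * 𝒟.cr y z) = 𝒟.T (y * 𝒟.cr x z) := 𝒟.inj (by pt_push; ring)
theorem cr_cr (x y z : K) : 𝒟.cr (𝒟.cr x y) (𝒟.cr x z) = 𝒟.T (x * 𝒟.cr y z) • x := by pt_push; grind
theorem charF (_ : Fd F K) : CharP F 2 := (algebraMap F K).charP (algebraMap F K).injective 2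
omit [CharP K 2] in
theorem G2.cr_eq {𝒟 : Fd F K} [CharP K 2] (h : 𝒟.G2) (x y : K) : 𝒟.cr x y = 0 := by simp only [cr, h.1]; grind

end Fd

namespace Pt

variable {𝒟 : Fd F K}

def x0 (v : K) : Pt 𝒟 := ⟨v, 0, 0, 0, 0, 0⟩
def x1 (a : F) : Pt 𝒟 := ⟨0, a, 0, 0, 0, 0⟩
def x2 (b : K) : Pt 𝒟 := ⟨0, 0, b, 0, 0, 0⟩
def x3 (c : F) : Pt 𝒟 := ⟨0, 0, 0, c, 0, 0⟩
def x4 (d : K) : Pt 𝒟 := ⟨0, 0, 0, 0, d, 0⟩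
def x5 (t : F) : Pt 𝒟 := ⟨0, 0, 0, 0, 0, t⟩

theorem inv_v (p : Pt 𝒟) : p⁻¹.v = p.v := by pt_push; ring
theorem inv_t (p : Pt 𝒟) : p⁻¹.t = p.t := by pt_push; ring
theorem inv_d (p : Pt 𝒟) : p⁻¹.d = p.d + p.t • p.v := by pt_push; ring
theorem comm_v (p q : Pt 𝒟) : ⁅p, q⁆.v = 0 := by pt_push; grind
theorem comm_t (p q : Pt 𝒟) : ⁅p, q⁆.t = 0 := 𝒟.inj (by pt_push; grind)
theorem comm_d (p q : Pt 𝒟) : ⁅p, q⁆.d = p.t • q.v + q.t • p.v := by pt_push; grind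
theorem sq_v (p : Pt 𝒟) : (p * p).v = 0 := by pt_push; grind
theorem sq_t (p : Pt 𝒟) : (p * p).t = 0 := 𝒟.inj (by pt_push; grind)
theorem sq_d (p : Pt 𝒟) : (p * p).d = p.t • p.v := by pt_push; grind
/-- commutators in `Q` -/
theorem comm_Q {p q : Pt 𝒟} (hp : p.v = 0) (hq : q.v = 0) :
    ⁅p, q⁆ = x3 (p.t * q.a + q.t * p.a + 𝒟.T (p.d * q.b) + 𝒟.T (q.d * p.b)) := by
  apply ext2 <;> simp only [x3] <;> pt_push <;> (try simp only [hp, hq, map_zero]) <;> grind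
/-- squares in `Q` -/
theorem sq_Q {p : Pt 𝒟} (hp : p.v = 0) : p * p = x3 (p.t * p.a + 𝒟.T (p.d * p.b)) := by
  apply ext2 <;> simp only [x3] <;> pt_push <;> (try simp only [hp, map_zero]) <;> grind
/-- commutators in `R` modulo `L` -/
theorem comm_R_b {p q : Pt 𝒟} (hp : p.t = 0) (hq : q.t = 0) : ⁅p, q⁆.b = 𝒟.cr p.v q.d + 𝒟.cr q.v p.d := by
  pt_push; simp only [hp, hq, map_zero]; grind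
theorem sq_R_b {p : Pt 𝒟} (hp : p.t = 0) : (p * p).b = 𝒟.cr p.v p.d := by
  pt_push; simp only [hp, map_zero]; grind
theorem sq_R_a {p : Pt 𝒟} (hp : p.t = 0) : (p * p).a = 𝒟.T (p.v * p.b) + 𝒟.T (𝒟.adj p.v * p.d) :=
  𝒟.inj (by pt_push; simp only [hp, map_zero]; grind)
/-- the action on `A / Z` -/
theorem comm_A_b (p : Pt 𝒟) {q : Pt 𝒟} (h0 : q.v = 0) (h5 : q.t = 0) : ⁅p, q⁆.b = 𝒟.cr p.v q.d := by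
  pt_push; simp only [h0, h5, map_zero]; grind
theorem comm_A_a (p : Pt 𝒟) {q : Pt 𝒟} (h0 : q.v = 0) (h5 : q.t = 0) :
    ⁅p, q⁆.a = 𝒟.T (p.v * q.b) + 𝒟.T (𝒟.adj p.v * q.d) :=
  𝒟.inj (by pt_push; simp only [h0, h5, map_zero]; grind)
/-- the action on `Q / Z` -/
theorem comm_Q_b (p : Pt 𝒟) {q : Pt 𝒟} (h0 : q.v = 0) : ⁅p, q⁆.b = 𝒟.cr p.v q.d + q.t • 𝒟.adj p.v := by
  pt_push; simp only [h0, map_zero]; grind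
theorem comm_Q_a (p : Pt 𝒟) {q : Pt 𝒟} (h0 : q.v = 0) :
    ⁅p, q⁆.a = 𝒟.T (p.v * q.b) + 𝒟.T (𝒟.adj p.v * q.d) + q.t * 𝒟.N p.v :=
  𝒟.inj (by pt_push; simp only [h0, map_zero]; grind)
/-- the square of `[p, n]` detects `A` -/
theorem comm_sq (p : Pt 𝒟) {q : Pt 𝒟} (h0 : q.v = 0) : ⁅p, q⁆ * ⁅p, q⁆ = x3 (q.t ^ 2 * 𝒟.N p.v) := by
  apply ext2 <;> simp only [x3] <;> pt_push <;> (try simp only [h0, map_zero]) <;> grind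
/-- the action on `L` -/
theorem comm_L (p : Pt 𝒟) {q : Pt 𝒟} (h0 : q.v = 0) (h2 : q.b = 0) (h4 : q.d = 0) (h5 : q.t = 0) :
    ⁅p, q⁆ = x3 (p.t * q.a) := by
  apply ext2 <;> simp only [x3] <;> pt_push <;> (try simp only [h0, h2, h4, h5, map_zero]) <;> grind
/-- the action of `R` on `B` -/
theorem comm_RB {p q : Pt 𝒟} (hp : p.t = 0) (h0 : q.v = 0) (h4 : q.d = 0) (h5 : q.t = 0) :
    ⁅p, q⁆ = x1 (𝒟.T (p.v * q.b)) * x3 (𝒟.T (p.d * q.b)) := by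
  apply ext2 <;> simp only [x1, x3] <;> pt_push <;> (try simp only [hp, h0, h4, h5, map_zero]) <;> grind
theorem comm04 (v d : K) : ⁅(x0 v : Pt 𝒟), (x4 d : Pt 𝒟)⁆ =
    ⟨0, 𝒟.T (𝒟.adj v * d), 𝒟.cr v d, 𝒟.T (𝒟.adj d * v), 0, 0⟩ := by
  apply ext2 <;> simp only [x0, x4] <;> pt_push <;> grind
theorem conj5 (s : F) {p : Pt 𝒟} (hp : p.t = 0) : x5 s * p * (x5 s)⁻¹ =
    ⟨p.v, p.a + s * 𝒟.N p.v, p.b + s • 𝒟.adj p.v, p.c + s ^ 2 * 𝒟.N p.v + s * p.a + s * 𝒟.T (p.v * p.b),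
      p.d + s • p.v, 0⟩ := by
  apply ext2 <;> simp only [x5] <;> pt_push <;> (try simp only [hp, map_zero]) <;> grind

variable (𝒟)

def Q : Subgroup (Pt 𝒟) where
  carrier := {p | p.v = 0}
  one_mem' := rfl
  mul_mem' := fun {p q} (hp : p.v = 0) (hq : q.v = 0) => show (p * q).v = 0 by rw [mul_v, hp, hq, add_zero]
  inv_mem' := fun {p} (hp : p.v = 0) => (inv_v p).trans hp
def R : Subgroup (Pt 𝒟) where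
  carrier := {p | p.t = 0}
  one_mem' := rfl
  mul_mem' := fun {p q} (hp : p.t = 0) (hq : q.t = 0) => show (p * q).t = 0 by rw [mul_t, hp, hq, add_zero]
  inv_mem' := fun {p} (hp : p.t = 0) => (inv_t p).trans hp
def A : Subgroup (Pt 𝒟) := Q 𝒟 ⊓ R 𝒟
def B : Subgroup (Pt 𝒟) where
  carrier := {p | p.v = 0 ∧ p.d = 0 ∧ p.t = 0}
  one_mem' := ⟨rfl, rfl, rfl⟩
  mul_mem' := fun {p q} hp hq => by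
    refine ⟨?_, ?_, ?_⟩ <;> simp [mul_v, mul_d, mul_t, hp.1, hp.2.1, hp.2.2, hq.1, hq.2.1, hq.2.2]
  inv_mem' := fun {p} hp => by
    refine ⟨?_, ?_, ?_⟩ <;> simp [inv_v, inv_d, inv_t, hp.1, hp.2.1, hp.2.2]
def L : Subgroup (Pt 𝒟) where
  carrier := {p | p.v = 0 ∧ p.b = 0 ∧ p.d = 0 ∧ p.t = 0}
  one_mem' := ⟨rfl, rfl, rfl, rfl⟩
  mul_mem' := fun {p q} hp hq => by
    refine ⟨?_, ?_, ?_, ?_⟩ <;>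
      simp [mul_v, mul_b, mul_d, mul_t, hp.1, hp.2.1, hp.2.2.1, hp.2.2.2, hq.1, hq.2.1, hq.2.2.1, hq.2.2.2, Fd.cr_zero]
  inv_mem' := fun {p} hp => by
    refine ⟨?_, ?_, ?_, ?_⟩ <;>
      simp [inv_def, mul_v, mul_b, mul_d, mul_t, hp.1, hp.2.1, hp.2.2.1, hp.2.2.2, Fd.cr_zero]
def Z : Subgroup (Pt 𝒟) where
  carrier := {p | p.v = 0 ∧ p.a = 0 ∧ p.b = 0 ∧ p.d = 0 ∧ p.t = 0}
  one_mem' := ⟨rfl, rfl, rfl, rfl, rfl⟩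
  mul_mem' := fun {p q} hp hq => by
    refine ⟨?_, ?_, ?_, ?_, ?_⟩ <;> simp [mul_v, mul_a, mul_b, mul_d, mul_t, hp.1, hp.2.1, hp.2.2.1, hp.2.2.2.1,
      hp.2.2.2.2, hq.1, hq.2.1, hq.2.2.1, hq.2.2.2.1, hq.2.2.2.2, Fd.cr_zero]
  inv_mem' := fun {p} hp => by
    refine ⟨?_, ?_, ?_, ?_, ?_⟩ <;> simp [inv_def, mul_v, mul_a, mul_b, mul_d, mul_t, hp.1, hp.2.1, hp.2.2.1,
      hp.2.2.2.1, hp.2.2.2.2, Fd.cr_zero]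

variable {𝒟} {p : Pt 𝒟}

theorem mem_Q : p ∈ Q 𝒟 ↔ p.v = 0 := Iff.rfl
theorem mem_R : p ∈ R 𝒟 ↔ p.t = 0 := Iff.rfl
theorem mem_A : p ∈ A 𝒟 ↔ p.v = 0 ∧ p.t = 0 := Iff.rfl
theorem mem_B : p ∈ B 𝒟 ↔ p.v = 0 ∧ p.d = 0 ∧ p.t = 0 := Iff.rfl
theorem mem_L : p ∈ L 𝒟 ↔ p.v = 0 ∧ p.b = 0 ∧ p.d = 0 ∧ p.t = 0 := Iff.rfl
theorem mem_Z : p ∈ Z 𝒟 ↔ p.v = 0 ∧ p.a = 0 ∧ p.b = 0 ∧ p.d = 0 ∧ p.t = 0 := Iff.rfl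

end Pt

/-! ### essential subgroups -/

section

variable {G : Type u} [Group G]

/-- `E` is essential in the Sylow `2`-subgroup `S`; `H` is the preimage of the strongly embedded subgroup -/
structure Ess (S E H : Subgroup G) : Prop where
  le : E ≤ S
  pS : IsPGroup 2 S
  cen : ∀ s ∈ S, (∀ x ∈ E, Commute s x) → s ∈ E
  syl : IsSylowIn 2 (S ⊓ 𝒩(E)) 𝒩(E)
  Hle : H ≤ 𝒩(E)
  TH : S ⊓ 𝒩(E) ≤ H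
  CH : 𝒞(E) ≤ H
  ne : ∃ g ∈ 𝒩(E), g ∉ H
  lt : ¬ S ≤ E
  se : ∀ g ∈ 𝒩(E), g ∉ H → ∀ t ∈ H, (∃ k, t ^ 2 ^ k = 1) → g⁻¹ * t * g ∈ H → t ∈ E

/-- `t` is an involution modulo `E` in `N_S(E)` -/
structure Iv (S E : Subgroup G) (t : G) : Prop where
  mem : t ∈ S
  norm : t ∈ 𝒩(E)
  out : t ∉ E
  sq : t * t ∈ E

/-- working properties of an essential subgroup -/
structure EssT (S E H : Subgroup G) : Prop extends Ess S E H where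
  /-- products of involutions in different conjugates are odd -/
  od : ∀ {g t t₁}, g ∈ 𝒩(E) → g ∉ H → Iv S E t → Iv S E t₁ →
    (∃ n, Odd n ∧ (t * (g * t₁ * g⁻¹)) ^ n ∈ E) ∧
      ∃ w ∈ closure ({t, g * t₁ * g⁻¹} : Set G), w * t * w⁻¹ * (g * t₁ * g⁻¹)⁻¹ ∈ E
  /-- all involutions of `N(E)/E` are conjugate -/
  cnj : ∀ {t t₁}, Iv S E t → Iv S E t₁ → ∃ w ∈ 𝒩(E), w * t * w⁻¹ * t₁⁻¹ ∈ E
  /-- a normal subgroup of even order contains all involutions -/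
  ker : ∀ {M : Subgroup G} {s t}, E ≤ M → 𝒩(E) ≤ 𝒩(M) → s ∈ M → s ∈ S → s ∈ 𝒩(E) → s ∉ E → Iv S E t → t ∈ M
  /-- chain lemma for a subgroup `W` meeting two conjugates of `H` in even order -/
  chainW : ∀ {W C₁ C₂ C₃ C₄ : Subgroup G} {g t t₁ s}, W ≤ 𝒩(E) → g ∈ 𝒩(E) → g ∉ H → t ∈ S → t ∉ E → t₁ ∈ S →
    t₁ ∈ 𝒩(E) → t₁ ∉ E → t ∈ W → g * t₁ * g⁻¹ ∈ W → W ≤ 𝒩(C₁) → W ≤ 𝒩(C₂) → W ≤ 𝒩(C₃) → W ≤ 𝒩(C₄) → s ∈ W →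
    (∃ k, s ^ 2 ^ k = 1) → (∀ x ∈ E, x ∈ C₁ → Commute s x) → (∀ x ∈ E, x ∈ C₂ → ⁅s, x⁆ ∈ C₁) →
    (∀ x ∈ E, x ∈ C₃ → ⁅s, x⁆ ∈ C₂) → (∀ x ∈ E, x ∈ C₄ → ⁅s, x⁆ ∈ C₃) → (∀ x ∈ E, ⁅s, x⁆ ∈ C₄) → s ∈ E
  /-- chain lemma -/
  chain : ∀ {C₁ C₂ C₃ C₄ : Subgroup G} {s}, 𝒩(E) ≤ 𝒩(C₁) → 𝒩(E) ≤ 𝒩(C₂) → 𝒩(E) ≤ 𝒩(C₃) → 𝒩(E) ≤ 𝒩(C₄) → s ∈ S →
    s ∈ 𝒩(E) → (∀ x ∈ E, x ∈ C₁ → Commute s x) → (∀ x ∈ E, x ∈ C₂ → ⁅s, x⁆ ∈ C₁) →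
    (∀ x ∈ E, x ∈ C₃ → ⁅s, x⁆ ∈ C₂) → (∀ x ∈ E, x ∈ C₄ → ⁅s, x⁆ ∈ C₃) → (∀ x ∈ E, ⁅s, x⁆ ∈ C₄) → s ∈ E

/-- `{x ∈ E | [x, E] ≤ C}` -/
def up (E C : Subgroup G) (hC : E ≤ 𝒩(C)) : Subgroup G where
  carrier := {x | x ∈ E ∧ ∀ y ∈ E, ⁅x, y⁆ ∈ C}
  one_mem' := ⟨one_mem _, fun y _ => by simpa using one_mem C⟩
  mul_mem' := fun {a b} ha hb => ⟨mul_mem ha.1 hb.1, fun y hy => by
    rw [show ⁅a * b, y⁆ = a * ⁅b, y⁆ * a⁻¹ * ⁅a, y⁆ by simp only [commutatorElement_def]; group]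
    exact mul_mem (conj_mem (hC ha.1) (hb.2 y hy)) (ha.2 y hy)⟩
  inv_mem' := fun {a} ha => ⟨inv_mem ha.1, fun y hy => by
    rw [show ⁅a⁻¹, y⁆ = a⁻¹ * ⁅a, y⁆⁻¹ * a⁻¹⁻¹ by simp only [commutatorElement_def]; group]
    exact conj_mem (hC (inv_mem ha.1)) (inv_mem (ha.2 y hy))⟩

theorem mem_up {E C : Subgroup G} {hC : E ≤ 𝒩(C)} {x : G} : x ∈ up E C hC ↔ x ∈ E ∧ ∀ y ∈ E, ⁅x, y⁆ ∈ C := Iff.rfl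

theorem norm_up [Finite G] {E C W : Subgroup G} {hC : E ≤ 𝒩(C)} (h1 : W ≤ 𝒩(E)) (h2 : W ≤ 𝒩(C)) :
    W ≤ 𝒩(up E C hC) := fun g hg => mem_norm_of_cj_le (by
  rintro _ ⟨x, hx, rfl⟩
  refine ⟨conj_mem (h1 hg) hx.1, fun y hy => ?_⟩
  have := conj_mem (h2 hg) (hx.2 _ (conj_mem (inv_mem (h1 hg)) hy))
  simpa [commutatorElement_def, mul_assoc] using this)

/-! ### the setting -/

variable {𝒟 : Fd F K} (e : Pt 𝒟 →* G)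

abbrev gS : Subgroup G := e.range
abbrev gQ : Subgroup G := (Pt.Q 𝒟).map e
abbrev gR : Subgroup G := (Pt.R 𝒟).map e
abbrev gA : Subgroup G := (Pt.A 𝒟).map e
abbrev gB : Subgroup G := (Pt.B 𝒟).map e
abbrev gL : Subgroup G := (Pt.L 𝒟).map e
abbrev gZ : Subgroup G := (Pt.Z 𝒟).map e
/-- the long root elements in `Q` -/
def Δ : Set G := {y | y ≠ 1 ∧ ∃ g ∈ 𝒩(gQ e), g⁻¹ * y * g ∈ gL e}

/-- `e` is an isomorphism onto a Sylow `2`-subgroup -/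
structure St : Prop extends 𝒟.LA where
  inj : Function.Injective e
  syl : IsSylowIn 2 (gS e) ⊤

/-- characteristic subgroups -/
structure St2 : Prop extends St e where
  SQ : 𝒩(gS e) ≤ 𝒩(gQ e)
  SR : 𝒩(gS e) ≤ 𝒩(gR e)
  QZ : 𝒩(gQ e) ≤ 𝒩(gZ e)
  RL : 𝒩(gR e) ≤ 𝒩(gL e)
  RB : 𝒟.D4 → 𝒩(gR e) ≤ 𝒩(gB e)
  cQ : gS e ⊓ 𝒞(gQ e) = gZ e
  cL : gS e ⊓ 𝒞(gL e) = gR e
  cA : gS e ⊓ 𝒞(gA e) = gL e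
  cB : gS e ⊓ 𝒞(gB e) = gB e
  essQ : ¬ 𝒩(gQ e) ≤ 𝒩(gL e) → Ess (gS e) (gQ e) (𝒩(gQ e) ⊓ 𝒩(gL e))
  essR : ¬ 𝒩(gR e) ≤ 𝒩(gZ e) → Ess (gS e) (gR e) (𝒩(gR e) ⊓ 𝒩(gZ e))

/-- fusion in the two parabolic subgroups -/
structure St3 : Prop extends St2 e where
  ec : ∀ E H, Ess (gS e) E H → E = gQ e ∨ E = gR e
  r1 : ∀ g ∈ 𝒩(gR e), g ∉ 𝒩(gZ e) → ∀ z ∈ gZ e, g * z * g⁻¹ ∈ gZ e → z = 1
  r2 : ¬ 𝒩(gR e) ≤ 𝒩(gZ e) → ∀ a ∈ gL e, a ≠ 1 → ∀ b ∈ gL e, b ≠ 1 → ∃ g ∈ 𝒩(gR e), g * a * g⁻¹ = b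
  r3 : 𝒩(gR e) ≤ 𝒩(gZ e) → ∀ H, ¬ Ess (gS e) (gR e) H
  q1 : ∀ g ∈ 𝒩(gQ e), g ∉ 𝒩(gL e) → ∀ y ∈ gL e, g * y * g⁻¹ ∈ gA e → y ∈ gZ e

/-- fusion in a simple group -/
structure Fu : Prop extends St3 e where
  simple : IsSimpleGroup G
  nse : ∀ H : Subgroup G, ¬ IsStronglyEmbedded H
  nR : ¬ 𝒩(gR e) ≤ 𝒩(gZ e)
  nQ : ¬ 𝒩(gQ e) ≤ 𝒩(gL e)
  clo : ∀ a ∈ Δ e, ∀ g : G, g * a * g⁻¹ ∈ gS e → g * a * g⁻¹ ∈ Δ e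

/-- centralizers of long root elements -/
structure Fu2 : Prop extends Fu e where
  cz : ∀ z ∈ gZ e, z ≠ 1 → centralizer {z} ≤ centralizerPPrimeCore 2 z ⊔ (centralizer {z} ⊓ 𝒩(gQ e))
  con : ∀ z ∈ gZ e, z ≠ 1 → IsPConstrained 2 (centralizer ({z} : Set G))

end

/-- quantification over the setting -/
def All (P : ∀ (G : Type u) [Group G] [Finite G] (F K : Type) [Field F] [Field K] [Algebra F K] [CharP K 2]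
    (𝒟 : Fd F K), (Pt 𝒟 →* G) → Prop) : Prop :=
  ∀ (G : Type u) [Group G] [Finite G] (F K : Type) [Field F] [Field K] [Algebra F K] [CharP K 2] (𝒟 : Fd F K)
    (e : Pt 𝒟 →* G), P G F K 𝒟 e

def SLA : Prop := ∀ (F K : Type) [Field F] [Field K] [Algebra F K] [CharP K 2] (𝒟 : Fd F K), 𝒟.Ok → 𝒟.LA
def SET : Prop := ∀ (G : Type u) [Group G] [Finite G] (S E H : Subgroup G), Ess S E H → EssT S E H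
def ALP : Prop := ∀ (G : Type u) [Group G] [Finite G] (S : Subgroup G) (D : Set G), IsSylowIn 2 S ⊤ →
  (∀ g ∈ 𝒩(S), ∀ a ∈ D, a ∈ S → g * a * g⁻¹ ∈ D) → (∀ E H, Ess S E H → ∀ g ∈ 𝒩(E), ∀ a ∈ D, a ∈ E → g * a * g⁻¹ ∈ D) →
    ∀ a ∈ D, a ∈ S → ∀ g : G, g * a * g⁻¹ ∈ S → g * a * g⁻¹ ∈ D
def SCH : Prop := All.{u} fun _ _ _ _ _ _ _ _ _ _ e => St e → St2 e
def E1 : Prop := All.{u} fun _ _ _ _ _ _ _ _ _ _ e => St2 e → ∀ E H, EssT (gS e) E H → E ≤ gQ e → E = gQ e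
def E2a : Prop := All.{u} fun _ _ _ _ _ _ _ _ _ _ e => St2 e → ∀ E H, EssT (gS e) E H → ¬ E ≤ gQ e → ¬ E ≤ gR e →
  gB e ≤ E
def E2b : Prop := All.{u} fun _ _ _ _ _ _ _ _ _ _ e => St2 e → ∀ E H, EssT (gS e) E H → ¬ E ≤ gQ e → ¬ E ≤ gR e →
  gB e ≤ E → (∀ x ∈ E, (∀ y ∈ E, Commute x y) → x ∈ gZ e) → gA e ≤ E
def E2z : Prop := All.{u} fun _ _ _ _ _ _ _ _ _ _ e => St2 e → ∀ E H, EssT (gS e) E H → ¬ E ≤ gQ e → ¬ E ≤ gR e →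
  gB e ≤ E → ∀ x ∈ E, (∀ y ∈ E, Commute x y) → x ∈ gZ e
def E2c : Prop := All.{u} fun _ _ _ _ _ _ _ _ _ _ e => St2 e → ∀ E H, EssT (gS e) E H → ¬ E ≤ gQ e → ¬ E ≤ gR e →
  gA e ≤ E → 𝒩(E) ≤ 𝒩(E ⊓ gQ e)
def E2d : Prop := All.{u} fun _ _ _ _ _ _ _ _ _ _ e => St2 e → ∀ E H, EssT (gS e) E H → ¬ E ≤ gQ e → ¬ E ≤ gR e →
  gA e ≤ E → ¬ 𝒩(E) ≤ 𝒩(E ⊓ gQ e)
def E3a : Prop := All.{u} fun _ _ _ _ _ _ _ _ _ _ e => St2 e → ∀ E H, EssT (gS e) E H → ¬ E ≤ gQ e → E ≤ gR e →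
  gB e ≤ E
def E3b : Prop := All.{u} fun _ _ _ _ _ _ _ _ _ _ e => St2 e → ∀ E H, EssT (gS e) E H → ¬ E ≤ gQ e → E ≤ gR e →
  gB e ≤ E → ∀ x ∈ E, (∀ y ∈ E, Commute x y) → x ∈ gL e
/-- `B X₀` -/
abbrev gA' {G : Type u} [Group G] {𝒟 : Fd F K} (e : Pt 𝒟 →* G) : Set G := {g | ∃ p, p.d = 0 ∧ p.t = 0 ∧ e p = g}
def E3c : Prop := All.{u} fun _ _ _ _ _ _ _ _ _ _ e => St2 e → ∀ E H, EssT (gS e) E H → ¬ E ≤ gQ e → E ≤ gR e →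
  gB e ≤ E → (∀ x ∈ E, (∀ y ∈ E, Commute x y) → x ∈ gL e) →
    E = gR e ∨ ∃ s, ∀ g, g ∈ E ↔ e (Pt.x5 s) * g * (e (Pt.x5 s))⁻¹ ∈ gA' e
def E3d : Prop := All.{u} fun _ _ _ _ _ _ _ _ _ _ e => St2 e → ∀ E H s, EssT (gS e) E H →
  ¬ ∀ g, g ∈ E ↔ e (Pt.x5 s) * g * (e (Pt.x5 s))⁻¹ ∈ gA' e
def F1 : Prop := All.{u} fun _ _ _ _ _ _ _ _ _ _ e => St2 e →
  (∀ g ∈ 𝒩(gR e), g ∉ 𝒩(gZ e) → ∀ z ∈ gZ e, g * z * g⁻¹ ∈ gZ e → z = 1) ∧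
  (¬ 𝒩(gR e) ≤ 𝒩(gZ e) → ∀ a ∈ gL e, a ≠ 1 → ∀ b ∈ gL e, b ≠ 1 → ∃ g ∈ 𝒩(gR e), g * a * g⁻¹ = b) ∧
  (𝒩(gR e) ≤ 𝒩(gZ e) → ∀ H, ¬ Ess (gS e) (gR e) H)
def F2g : Prop := All.{u} fun _ _ _ _ _ _ _ _ _ 𝒟 e => St2 e → 𝒟.G2 →
  ∀ g ∈ 𝒩(gQ e), g ∉ 𝒩(gL e) → ∀ y ∈ gL e, g * y * g⁻¹ ∈ gA e → y ∈ gZ e
def F2d : Prop := All.{u} fun _ _ _ _ _ _ _ _ _ 𝒟 e => St2 e → 𝒟.D4 →
  ∀ g ∈ 𝒩(gQ e), g ∉ 𝒩(gL e) → ∀ y ∈ gL e, g * y * g⁻¹ ∈ gA e → y ∈ gZ e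
def K1 : Prop := All.{u} fun G _ _ _ _ _ _ _ _ _ e => St3 e → IsSimpleGroup G → Fu e
/-- a strongly closed abelian subgroup which is normal -/
def GA : Prop := ∀ (G : Type u) [Group G] [Finite G] (T V : Subgroup G), oddCore G = ⊥ → IsSylowIn 2 T ⊤ →
  IsStronglyClosed V T → (∀ a ∈ V, ∀ b ∈ V, Commute a b) → V ≤ ⁅T ⊓ 𝒞(V), T ⊓ 𝒞(V)⁆ →
  (∀ T₀ : Subgroup G, V ≤ T₀ → T₀ ≤ T → T ≤ 𝒩(T₀) → (∀ x ∈ T₀, x * x = 1 → x ∈ V) → T₀ ≤ V) → V.Normal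
def C1a : Prop := All.{u} fun G _ _ _ _ _ _ _ _ _ e => St2 e → oddCore G = ⊥ → IsStronglyClosed (gZ e) (gS e) →
  (gZ e).Normal
def C1b : Prop := All.{u} fun G _ _ _ _ _ _ _ _ _ e => St2 e → oddCore G = ⊥ → (gZ e).Normal →
  IsStronglyClosed (gQ e) (gS e) → (gQ e).Normal
def CZ : Prop := All.{u} fun _ _ _ _ _ _ _ _ _ _ e => Fu e → Fu2 e
def C4 : Prop := All.{u} fun _ _ _ F _ _ _ _ _ _ e => Fu2 e → 4 ≤ Nat.card F →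
  ∀ z ∈ gZ e, z ≠ 1 → centralizerPPrimeCore 2 z = ⊥
/-- `q = 2`: two members of the family of `B` meet in `Z` -/
def BB {G : Type u} [Group G] {𝒟 : Fd F K} (e : Pt 𝒟 →* G) : Prop :=
  ∀ g ∈ 𝒩(gQ e), ∀ u ∈ gB e, g⁻¹ * u * g ∈ gB e → u ∈ gZ e ∨ g ∈ 𝒩(gL e)
def Q1 : Prop := All.{u} fun _ _ _ F _ _ _ _ _ 𝒟 e => Fu e → 𝒟.D4 → Nat.card F = 2 → BB e ∧
  ∃ n ∈ gQ e, n ∈ Δ e ∧ n ∉ gA e ∧ ∀ y ∈ Δ e, y ∈ gL e ∨ ∃ v, ∃ z ∈ gZ e, y = e (Pt.x0 v) * n * (e (Pt.x0 v))⁻¹ * z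
def Q2 : Prop := All.{u} fun _ _ _ F _ _ _ _ _ 𝒟 e => Fu e → 𝒟.D4 → Nat.card F = 2 →
  ∀ y ∈ gQ e, y * y = 1 → y = 1 ∨ y ∈ Δ e ∨ ∃ g ∈ 𝒩(gQ e), g⁻¹ * y * g ∈ gB e
def Q3 : Prop := All.{u} fun G _ _ F _ _ _ _ _ 𝒟 e => Fu2 e → 𝒟.D4 → Nat.card F = 2 → BB e →
  ∀ u ∈ gB e, u ∉ gL e → IsPConstrained 2 (centralizer ({u} : Set G))
def Q4 : Prop := All.{u} fun _ _ _ F _ _ _ _ _ 𝒟 e => Fu2 e → 𝒟.D4 → Nat.card F = 2 →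
  ∀ z ∈ gZ e, z ≠ 1 → centralizerPPrimeCore 2 z = ⊥
/-- the Sylow subgroups of the models -/
def MOD : Prop :=
  (∀ (F : Type) [Field F] [Fintype F] (r : ℕ), 2 ≤ r → Fintype.card F = 2 ^ r → ∀ P : Sylow 2 (Lie.chevG2.group F),
    ∃ (_ : CharP F 2) (𝒟 : Fd F F), 𝒟.Ok ∧ 𝒟.G2 ∧ Nonempty (Pt 𝒟 ≃* P)) ∧
  ∀ (K : Type) [Field K] [Fintype K] (r : ℕ), 1 ≤ r → Fintype.card K = 8 ^ r → ∀ P : Sylow 2 (Lie.twistedD4 K (2 ^ r)),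
    ∃ (F : Type) (_ : Field F) (_ : Algebra F K) (_ : CharP K 2) (𝒟 : Fd F K), 𝒟.Ok ∧ 𝒟.D4 ∧ Nat.card F = 2 ^ r ∧
      Nonempty (Pt 𝒟 ≃* P)

end CL.SY
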