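/-
Project SY: the characteristic subgroups of the Sylow subgroup; `Q` and `R` are essential unless they are irrelevant.
-/
import Cfsg.Agent.SY.Defs

set_option autoImplicit false

namespace CL.SY

open Subgroup Cfsg CL.Even CL.Grp Pt
open scoped commutatorElement

universe u

namespace Sch

variable {F K : Type} [Field F] [Field K] [Algebra F K] [CharP K 2] {𝒟 : Fd F K} {p : Pt 𝒟}

theorem x3_one {c : F} : (x3 c : Pt 𝒟) = 1 ↔ c = 0 := ⟨fun h => congrArg Pt.c h, fun h => h ▸ rfl⟩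
theorem x3_mem (c : F) : (x3 c : Pt 𝒟) ∈ Z 𝒟 := ⟨rfl, rfl, rfl, rfl, rfl⟩
theorem swap {X : Subgroup (Pt 𝒟)} {q : Pt 𝒟} (h : ⁅q, p⁆ ∈ X) : ⁅p, q⁆ ∈ X := by
  rw [← commutatorElement_inv]; exact inv_mem h
theorem swap1 {q : Pt 𝒟} (h : ⁅q, p⁆ = 1) : ⁅p, q⁆ = 1 := mem_bot.1 (swap (mem_bot.2 h))

theorem ZL : Z 𝒟 ≤ L 𝒟 := fun _ h => ⟨h.1, h.2.2⟩
theorem LB : L 𝒟 ≤ B 𝒟 := fun _ h => ⟨h.1, h.2.2⟩
theorem BA : B 𝒟 ≤ A 𝒟 := fun _ h => ⟨h.1, h.2.2⟩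
theorem LA' : L 𝒟 ≤ A 𝒟 := LB.trans BA
theorem AQ : A 𝒟 ≤ Q 𝒟 := inf_le_left
theorem AR : A 𝒟 ≤ R 𝒟 := inf_le_right

theorem zc (hp : p ∈ Z 𝒟) (q : Pt 𝒟) : ⁅p, q⁆ = 1 :=
  swap1 (by rw [comm_L q hp.1 hp.2.2.1 hp.2.2.2.1 hp.2.2.2.2, hp.2.1, mul_zero, x3_one])
theorem lc (hp : p ∈ L 𝒟) {q : Pt 𝒟} (hq : q ∈ R 𝒟) : ⁅q, p⁆ = 1 := by
  rw [comm_L q hp.1 hp.2.1 hp.2.2.1 hp.2.2.2, mem_R.1 hq, zero_mul, x3_one]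
theorem lz (hp : p ∈ L 𝒟) (q : Pt 𝒟) : ⁅p, q⁆ ∈ Z 𝒟 :=
  swap (by rw [comm_L q hp.1 hp.2.1 hp.2.2.1 hp.2.2.2]; exact x3_mem _)

theorem cL : p ∈ R 𝒟 ↔ ∀ q ∈ L 𝒟, ⁅p, q⁆ = 1 := ⟨fun hp q hq => lc hq hp, fun k => by
  have := k (x1 1) ⟨rfl, rfl, rfl, rfl⟩
  rw [comm_L p rfl rfl rfl rfl, x3_one] at this
  exact (mul_one p.t).symm.trans this⟩

/-- the elements with `[p, S] ≤ B` lie in `A` -/
theorem memA (k : ∀ q, ⁅p, q⁆ ∈ B 𝒟) : p ∈ A 𝒟 := by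
  have k1 := (k (x0 1)).2.1
  have k2 := (k (x5 1)).2.1
  rw [comm_d] at k1 k2
  exact ⟨mem_Q.2 (by simpa [x5] using k2), mem_R.2 (by simpa [x0] using k1)⟩

theorem bl (hp : p ∈ B 𝒟) (q : Pt 𝒟) : ⁅p, q⁆ ∈ L 𝒟 := swap ⟨comm_v _ _, by
  rw [comm_A_b q hp.1 hp.2.2, hp.2.1, Fd.cr_zero], by rw [comm_d, hp.1, hp.2.2, smul_zero, zero_smul, add_zero], comm_t _ _⟩

theorem nL : (⊤ : Subgroup (Pt 𝒟)) ≤ 𝒩(L 𝒟) := le_norm_of_cj_le fun g _ x hx => by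
  obtain ⟨y, hy, rfl⟩ := hx
  have := mul_mem (swap (ZL (lz hy g))) hy
  simpa [commutatorElement_def] using this

variable (h : 𝒟.LA)
include h

theorem v0 (k : ∀ b, ⁅p, (x2 b : Pt 𝒟)⁆.a = 0) : p.v = 0 := h.nd _ fun b => by
  have := k b
  rw [comm_A_a p rfl rfl] at this
  simpa [x2] using this

theorem cB : p ∈ B 𝒟 ↔ ∀ q ∈ B 𝒟, ⁅p, q⁆ = 1 := ⟨fun hp q hq => by
  simp [comm_Q hp.1 hq.1, x3_one, hp.2.1, hp.2.2, hq.2.1, hq.2.2], fun k => by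
  have v := v0 h fun b => congrArg Pt.a (k (x2 b) ⟨rfl, rfl, rfl⟩)
  refine ⟨v, h.nd _ fun b => ?_, cL.2 fun q hq => k q (LB hq)⟩
  have := k (x2 b) ⟨rfl, rfl, rfl⟩
  rw [comm_Q v rfl, x3_one] at this
  simpa [x2] using this⟩

theorem cA : p ∈ L 𝒟 ↔ ∀ q ∈ A 𝒟, ⁅p, q⁆ = 1 := ⟨fun hp q hq => swap1 (lc hp hq.2), fun k => by
  have m := (cB h).2 fun q hq => k q (BA hq)
  refine ⟨m.1, h.nd _ fun d => ?_, m.2⟩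
  have := k (x4 d) ⟨rfl, rfl⟩
  rw [comm_Q m.1 rfl, x3_one] at this
  simpa [x4, mul_comm] using this⟩

theorem cQ : p ∈ Z 𝒟 ↔ ∀ q ∈ Q 𝒟, ⁅p, q⁆ = 1 := ⟨fun hp q _ => zc hp q, fun k => by
  have m := (cA h).2 fun q hq => k q (AQ hq)
  refine ⟨m.1, ?_, m.2⟩
  have := k (x5 1) rfl
  rw [comm_Q m.1 rfl, x3_one] at this
  simpa [x5] using this⟩

theorem z2 : p ∈ L 𝒟 ↔ ∀ q, ⁅p, q⁆ ∈ Z 𝒟 := ⟨lz, fun k => by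
  have m := memA fun q => LB (ZL (k q))
  have := h.zL p.b p.d fun v => by
    have j := swap (k (x0 v))
    have j1 := j.2.1
    have j2 := j.2.2.1
    rw [comm_A_a _ m.1 m.2] at j1
    rw [comm_A_b _ m.1 m.2] at j2
    haveI := 𝒟.charF
    exact ⟨j2, CharTwo.add_eq_zero.1 j1⟩
  exact ⟨m.1, this.1, this.2, m.2⟩⟩

theorem chQ : p ∈ Q 𝒟 ↔ ∀ q ∈ up ⊤ (L 𝒟) nL, ⁅p, q⁆ ∈ Z 𝒟 := ⟨fun hp q hq => by
  rw [comm_Q hp (memA fun r => LB (hq.2 r trivial)).1]; exact x3_mem _,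
  fun k => v0 h fun b => (k (x2 b) ⟨trivial, fun q _ => bl ⟨rfl, rfl, rfl⟩ q⟩).2.1⟩

theorem cr4 (d : 𝒟.D4) {v : K} (k : ∀ y, 𝒟.cr v y = 0) : v = 0 := by
  by_contra hv
  obtain ⟨x, y, -, -, e⟩ := h.ex2 d 1 one_ne_zero
  obtain ⟨c, rfl⟩ := h.cr0 v x hv (k x)
  rw [Fd.cr_comm, Fd.cr_smul, Fd.cr_comm, k, smul_zero] at e
  exact zero_ne_one e

theorem chB (d : 𝒟.D4) : p ∈ B 𝒟 ↔ p ∈ R 𝒟 ∧ ∀ q ∈ R 𝒟, ⁅p, q⁆ ∈ L 𝒟 := ⟨fun hp => ⟨hp.2.2, fun q _ => bl hp q⟩,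
  fun ⟨hp, k⟩ => by
    refine ⟨cr4 h d fun y => ?_, cr4 h d fun y => ?_, hp⟩
    · have := (k (x4 y) rfl).2.1
      rw [comm_R_b hp rfl] at this
      simpa [x4, 𝒟.cr_comm 0, Fd.cr_zero] using this
    · have := (k (x0 y) rfl).2.1
      rw [comm_R_b hp rfl] at this
      simpa [x0, 𝒟.cr_comm y, Fd.cr_zero] using this⟩

omit h

variable {G : Type u} [Group G] [Finite G]

theorem tr {e : Pt 𝒟 →* G} (i : Function.Injective e) {V X Y C : Subgroup (Pt 𝒟)} {W : Subgroup G}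
    (h1 : W ≤ 𝒩(X.map e)) (h2 : W ≤ 𝒩(Y.map e)) (h3 : W ≤ 𝒩(C.map e))
    (k : ∀ {p}, p ∈ V ↔ p ∈ X ∧ ∀ q ∈ Y, ⁅p, q⁆ ∈ C) : W ≤ 𝒩(V.map e) := fun g hg => mem_norm_of_cj_le (by
  rintro _ ⟨_, ⟨x, hx, rfl⟩, rfl⟩
  obtain ⟨x', hx', e1⟩ := conj_mem (h1 hg) (mem_map_of_mem e (k.1 hx).1)
  refine ⟨x', k.2 ⟨hx', fun y hy => ?_⟩, e1⟩
  obtain ⟨y', hy', e2⟩ := conj_mem' (h2 hg) (mem_map_of_mem e hy)
  obtain ⟨c, hc, e3⟩ := conj_mem (h3 hg) (mem_map_of_mem e ((k.1 hx).2 y' hy'))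
  have : c = ⁅x', y⁆ := i (by
    rw [e3, map_commutatorElement, map_commutatorElement, e1, e2]; simp [commutatorElement_def, mul_assoc])
  exact this ▸ hc)

theorem tr1 {e : Pt 𝒟 →* G} (i : Function.Injective e) {V X Y : Subgroup (Pt 𝒟)} {W : Subgroup G}
    (h1 : W ≤ 𝒩(X.map e)) (h2 : W ≤ 𝒩(Y.map e)) (k : ∀ {p}, p ∈ V ↔ p ∈ X ∧ ∀ q ∈ Y, ⁅p, q⁆ = 1) :
    W ≤ 𝒩(V.map e) :=
  tr (C := ⊥) i h1 h2 (fun g _ => mem_norm_of_cj_le (by rw [Subgroup.map_bot, cj_bot])) (by simpa using @k)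

omit [Finite G] in
theorem ce {e : Pt 𝒟 →* G} (i : Function.Injective e) {V Y : Subgroup (Pt 𝒟)} (k : ∀ {p}, p ∈ V ↔ ∀ q ∈ Y, ⁅p, q⁆ = 1) :
    gS e ⊓ 𝒞(Y.map e) = V.map e := by
  ext x
  refine ⟨fun ⟨⟨p, e1⟩, c⟩ => ⟨p, k.2 fun q hq => i ?_, e1⟩, ?_⟩
  · rw [map_commutatorElement, map_one, e1, commutatorElement_eq_one_iff_mul_comm]
    exact (comm_of_mem c (mem_map_of_mem e hq)).symm
  · rintro ⟨p, hp, rfl⟩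
    refine ⟨⟨p, rfl⟩, ?_⟩
    rintro _ ⟨q, hq, rfl⟩
    rw [← map_mul, ← map_mul, commutatorElement_eq_one_iff_mul_comm.1 (k.1 hp q hq)]

/-- two elements outside `E` determine the same subgroup `X` -/
theorem se {S E H X Y : Subgroup G} {m : ℕ} (hS : IsSylowIn 2 S H) (h1 : H ≤ 𝒩(E)) (h2 : H ≤ 𝒩(X)) (h3 : H ≤ 𝒩(Y))
    (h4 : X ≤ Y) (k : ∀ s ∈ S, s ∉ E → ∀ n ∈ Y, ⁅s, n⁆ ^ m = 1 ↔ n ∈ X) {g t : G} (g1 : g ∈ 𝒩(E)) (g2 : g ∈ 𝒩(Y))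
    (t1 : t ∈ H) (t2 : ∃ j, t ^ 2 ^ j = 1) (t3 : g⁻¹ * t * g ∈ H) (t4 : t ∉ E) : g ∈ 𝒩(X) := by
  have c : ∀ a x y : G, ⁅a * x * a⁻¹, a * y * a⁻¹⁆ ^ m = 1 ↔ ⁅x, y⁆ ^ m = 1 := fun a x y => by
    rw [← conjugate_commutatorElement, conj_pow, conj_eq_one_iff]
  have k' : ∀ s ∈ H, (∃ j, s ^ 2 ^ j = 1) → s ∉ E → ∀ n ∈ Y, ⁅s, n⁆ ^ m = 1 ↔ n ∈ X := fun s s1 ⟨j, s2⟩ s3 n hn => by
    obtain ⟨a, ha, l⟩ := hS.exists_conj_le (isPGroup_zpowers s2) (zpowers_le.2 s1)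
    rw [← c a, k _ ((conj_smul_le_iff _ _ _).1 l s (mem_zpowers s))
      (fun j => s3 (by simpa [mul_assoc] using conj_mem' (h1 ha) j)) _ (conj_mem (h3 ha) hn)]
    exact ⟨fun j => by simpa [mul_assoc] using conj_mem' (h2 ha) j, conj_mem (h2 ha)⟩
  refine mem_norm_of_cj_le ?_
  rintro _ ⟨n, hn, rfl⟩
  have := (k' _ t3 (t2.imp fun j hj => by rw [← inv_inv g, inv_inv g⁻¹, conj_pow, hj]; simp)
    (fun j => t4 (by simpa [mul_assoc] using conj_mem g1 j)) n (h4 hn)).2 hn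
  rw [← c g, show g * (g⁻¹ * t * g) * g⁻¹ = t by group] at this
  exact (k' t t1 t2 t4 _ (conj_mem g2 (h4 hn))).1 this

theorem ess {S E X : Subgroup G} (hS : IsSylowIn 2 S ⊤) (h1 : E ≤ S) (h2 : X ≤ E) (h3 : S ≤ 𝒩(E)) (h4 : S ≤ 𝒩(X))
    (h5 : S ⊓ 𝒞(E) ≤ E) (h6 : ¬ S ≤ E) (h7 : ¬ 𝒩(E) ≤ 𝒩(X))
    (h8 : ∀ g ∈ 𝒩(E), ∀ t ∈ 𝒩(E) ⊓ 𝒩(X), (∃ k, t ^ 2 ^ k = 1) → g⁻¹ * t * g ∈ 𝒩(E) ⊓ 𝒩(X) → t ∉ E → g ∈ 𝒩(X)) :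
    Ess S E (𝒩(E) ⊓ 𝒩(X)) :=
  ⟨h1, hS.isPGroup, fun s hs k => h5 ⟨hs, fun x hx => (k x hx).eq.symm⟩, by
    rw [inf_eq_left.2 h3]; exact hS.of_le h3 le_top, inf_le_left, inf_le_left.trans (le_inf h3 h4),
    le_inf (cent_le_norm _) ((cent_mono h2).trans (cent_le_norm _)),
    let ⟨g, g1, g2⟩ := SetLike.not_le_iff_exists.1 h7; ⟨g, g1, fun j => g2 j.2⟩, h6,
    fun g g1 g2 t t1 t2 t3 => by_contra fun t4 => g2 ⟨g1, h8 g g1 t t1 t2 t3 t4⟩⟩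

end Sch

open Sch

theorem sch : SCH.{u} := by
  intro G _ _ F K _ _ _ _ 𝒟 e h
  have i := h.inj
  have l := h.toLA
  have s : 𝒩(gS e) ≤ 𝒩((⊤ : Subgroup (Pt 𝒟)).map e) := by rw [← MonoidHom.range_eq_map]
  have SZ : 𝒩(gS e) ≤ 𝒩(gZ e) := tr1 i s s ⟨fun hp => ⟨trivial, fun q _ => zc hp q⟩,
    fun k => (cQ l).2 fun q _ => k.2 q trivial⟩
  have SL : 𝒩(gS e) ≤ 𝒩(gL e) := tr i s s SZ ⟨fun hp => ⟨trivial, fun q _ => lz hp q⟩,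
    fun k => (z2 l).2 fun q => k.2 q trivial⟩
  have SR : 𝒩(gS e) ≤ 𝒩(gR e) := tr1 i s SL ⟨fun hp => ⟨trivial, cL.1 hp⟩, fun k => cL.2 k.2⟩
  have SQ : 𝒩(gS e) ≤ 𝒩(gQ e) := tr i s (tr (V := up ⊤ (L 𝒟) nL) i s s SL mem_up) SZ
    ⟨fun hp => ⟨trivial, (chQ l).1 hp⟩, fun k => (chQ l).2 k.2⟩
  have RL : 𝒩(gR e) ≤ 𝒩(gL e) := tr1 i le_rfl le_rfl ⟨fun hp => ⟨hp.2.2.2, fun q hq => swap1 (lc hp hq)⟩,
    fun k => (cA l).2 fun q hq => k.2 q (AR hq)⟩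
  have AL : 𝒩(gA e) ≤ 𝒩(gL e) := tr1 i le_rfl le_rfl ⟨fun hp => ⟨LA' hp, (cA l).1 hp⟩, fun k => (cA l).2 k.2⟩
  have n : gS e ≤ 𝒩(gS e) := le_normalizer
  have m : ∀ {X : Subgroup (Pt 𝒟)} {p}, e p ∈ X.map e ↔ p ∈ X := mem_map_iff_mem i
  have o : ∀ {p}, e p = 1 ↔ p = 1 := map_eq_one_iff e i
  refine ⟨h, SQ, SR, tr1 i le_rfl le_rfl ⟨fun hp => ⟨hp.1, (cQ l).1 hp⟩, fun k => (cQ l).2 k.2⟩, RL,
    fun d => tr i le_rfl le_rfl RL (chB l d), ce i (cQ l), ce i cL, ce i (cA l), ce i (cB l), fun k => ?_, fun k => ?_⟩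
  · refine ess h.syl (map_le_range _ _) (map_mono (LA'.trans AQ)) (n.trans SQ) (n.trans SL)
      ((ce i (cQ l)).le.trans (map_mono (ZL.trans (LA'.trans AQ)))) (fun j => one_ne_zero (m.1 (j ⟨x0 1, rfl⟩))) k
      fun g g1 t t1 t2 t3 t4 => AL (se (m := 2) (h.syl.of_le (le_inf (n.trans SQ) (n.trans SL)) le_top) inf_le_left
        (tr1 (V := A 𝒟) i inf_le_left inf_le_right ⟨fun hp => ⟨hp.1, cL.1 hp.2⟩, fun k => ⟨k.1, cL.2 k.2⟩⟩) inf_le_left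
        (map_mono AQ) ?_ g1 g1 t1 t2 t3 t4)
    rintro _ ⟨p, rfl⟩ hp _ ⟨q, hq, rfl⟩
    rw [← map_commutatorElement, ← map_pow, o, m, pow_two, comm_sq p hq, x3_one, mul_eq_zero, pow_eq_zero_iff two_ne_zero]
    exact ⟨fun j => ⟨hq, j.resolve_right fun j => hp (m.2 (l.N0 _ j))⟩, fun j => .inl j.2⟩
  · refine ess h.syl (map_le_range _ _) (map_mono (ZL.trans (LA'.trans AR))) (n.trans SR) (n.trans SZ)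
      ((inf_le_inf_left _ (cent_mono (map_mono AR))).trans ((ce i (cA l)).le.trans (map_mono (LA'.trans AR))))
      (fun j => one_ne_zero (m.1 (j ⟨x5 1, rfl⟩))) k
      fun g g1 t t1 t2 t3 t4 => se (m := 1) (h.syl.of_le (le_inf (n.trans SR) (n.trans SZ)) le_top) inf_le_left
        inf_le_right (inf_le_left.trans RL) (map_mono ZL) ?_ g1 (RL g1) t1 t2 t3 t4
    rintro _ ⟨p, rfl⟩ hp _ ⟨q, hq, rfl⟩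
    rw [← map_commutatorElement, pow_one, o, m, comm_L p hq.1 hq.2.1 hq.2.2.1 hq.2.2.2, x3_one, mul_eq_zero]
    exact ⟨fun j => ⟨hq.1, j.resolve_left fun j => hp (m.2 j), hq.2⟩, fun j => .inr j.2.1⟩

end CL.SY
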