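/-
Project SY (S1770, helper75): further named steps.
-/
import Cfsg.Agent.SY.Defs
import Cfsg.Agent.HX.DefsA

set_option autoImplicit false

namespace CL.SY

open Subgroup Cfsg CL.Even CL.Grp CL.FW

universe u

/-- a subgroup of `B X₀` with a central element outside `B` is not essential -/
def E3x : Prop := All.{u} fun _ _ _ _ _ _ _ _ _ _ e => St2 e → ∀ E H u, EssT (gS e) E H → (∀ g ∈ E, g ∈ gA' e) →
  gL e ≤ E → u ≠ 0 → e (Pt.x0 u) ∈ E → ¬ ∀ y ∈ E, Commute (e (Pt.x0 u)) y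

/-- the commutator relations give a copy of `Pt` -/
def MOD1 : Prop := ∀ (Γ : Type) [Group Γ] (F K : Type) [Field F] [Field K] [Algebra F K] [CharP K 2] (𝒟 : Fd F K)
  (P : Pre Γ F K) (n : K →*₀ F) (T : K →+ F) (h : ∀ t, n (algebraMap F K t) = t ^ 3),
  HX.Rel2 P (HX.cst (algebraMap F K) n T h) → (∀ x, n x = 𝒟.N x) → (∀ x, T x = 𝒟.T x) →
    ∃ f : Pt 𝒟 →* P.G0, Function.Injective f

end CL.SY
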