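/-
Project SY: linear algebra of the cubic norm form.
-/
import Cfsg.Agent.SY.Defs

set_option autoImplicit false

namespace CL.SY

open Subgroup Cfsg CL.Even CL.Grp

namespace SLAj

variable {F K : Type} [Field F] [Field K] [Algebra F K] [CharP K 2] (𝒟 : Fd F K)

theorem id1 (x y : K) : 𝒟.cr x (𝒟.cr (𝒟.adj x) y) = 𝒟.N x • y + 𝒟.T (x * y) • 𝒟.adj x := by pt_push; grind
theorem id2 (x y b : K) : 𝒟.cr (𝒟.cr x y) b = 𝒟.T (y * b) • x + 𝒟.T (x * b) • y := by pt_push; grind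
theorem id3 (x y : K) : 𝒟.cr (𝒟.adj x) (𝒟.cr x y) = 𝒟.N x • y + 𝒟.T (𝒟.adj x * y) • x := by pt_push; grind

theorem surj (x : K) (hx : x ≠ 0) (c : F) : ∃ y, 𝒟.T (x * y) = c :=
  ⟨x⁻¹ * algebraMap F K c, by rw [mul_inv_cancel_left₀ hx, 𝒟.T_map]⟩

theorem nd (x : K) (h : ∀ y, 𝒟.T (x * y) = 0) : x = 0 := by
  by_contra hx
  obtain ⟨y, hy⟩ := surj 𝒟 x hx 1
  exact one_ne_zero (hy.symm.trans (h y))

omit [CharP K 2] in
theorem N0 (x : K) (h : 𝒟.N x = 0) : x = 0 := by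
  have := 𝒟.hN x
  rw [h, map_zero] at this
  simpa using this.symm

theorem cr0 (x y : K) (hx : x ≠ 0) (h : 𝒟.cr x y = 0) : ∃ c : F, y = c • x := by
  have e := id3 𝒟 x y
  rw [h, 𝒟.cr_zero] at e
  refine ⟨(𝒟.N x)⁻¹ * -𝒟.T (𝒟.adj x * y), ?_⟩
  rw [mul_smul, neg_smul, ← eq_neg_of_add_eq_zero_left e.symm, inv_smul_smul₀ (mt (N0 𝒟 x) hx)]

theorem perp (x b : K) (hx : x ≠ 0) (h : 𝒟.T (x * b) = 0) : ∃ d, b = 𝒟.cr x d :=
  ⟨(𝒟.N x)⁻¹ • 𝒟.cr (𝒟.adj x) b, by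
    rw [𝒟.cr_smul, id1, h, zero_smul, add_zero, inv_smul_smul₀ (mt (N0 𝒟 x) hx)]⟩

omit [CharP K 2] in
theorem out (h : 𝒟.D4) (d : K) : ∃ v, ∀ c : F, v ≠ c • d := by
  by_contra! k
  have := finrank_le_one (R := F) d fun w => let ⟨c, e⟩ := k w; ⟨c, e.symm⟩
  rw [show Module.finrank F K = 3 from h] at this
  omega

theorem ιT {𝒟 : Fd F K} (h : 𝒟.G2) (x : K) : algebraMap F K (𝒟.T x) = x := by
  rw [𝒟.hT, h.1, h.1]; grind

theorem card (h : 𝒟.Ok) : 𝒟.G2 ∧ Nat.card K = Nat.card F ∨ 𝒟.D4 ∧ Nat.card K = Nat.card F ^ 3 := by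
  have := h.finK
  refine h.kind.imp (fun g => ⟨g, (Nat.card_eq_of_bijective (algebraMap F K)
    ⟨(algebraMap F K).injective, fun x => ⟨_, ιT g x⟩⟩).symm⟩) fun g => ⟨g, ?_⟩
  rw [Module.natCard_eq_pow_finrank (K := F), show Module.finrank F K = 3 from g]

theorem four (h : 𝒟.Ok) : 4 ≤ Nat.card K := by
  have := h.finK
  rcases card 𝒟 h with ⟨g, e⟩ | ⟨-, e⟩
  · exact e ▸ g.2
  · have := Finite.of_injective _ (algebraMap F K).injective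
    have : 2 ^ 3 ≤ Nat.card F ^ 3 := Nat.pow_le_pow_left Finite.one_lt_card 3
    omega

theorem zL (h : 𝒟.Ok) (b d : K) (k : ∀ v, 𝒟.cr v d = 0 ∧ 𝒟.T (v * b) = 𝒟.T (𝒟.adj v * d)) : b = 0 ∧ d = 0 := by
  have hd : d = 0 := by
    by_contra hd
    rcases h.kind with g | g
    · have e : ∀ v, v * b = v * v * d := fun v => by
        have := congrArg (algebraMap F K) (k v).2
        rwa [ιT g, ιT g, Fd.adj, g.1, g.1] at this
      have := h.finK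
      have c := four 𝒟 h
      obtain ⟨v, v0, v1⟩ : ∃ v : K, v ≠ 0 ∧ v ≠ 1 := by
        by_contra! n
        have : (Set.univ : Set K) ⊆ {0, 1} := fun a _ => or_iff_not_imp_left.2 (n a)
        have := (Set.ncard_le_ncard this (Set.toFinite _)).trans (Set.ncard_insert_le _ _)
        rw [Set.ncard_univ, Set.ncard_singleton] at this
        omega
      have e1 := e 1
      have e2 := e v
      rw [one_mul, one_mul, one_mul] at e1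
      rw [e1, mul_assoc] at e2
      exact v1 (mul_right_cancel₀ hd ((mul_left_cancel₀ v0 e2).symm.trans (one_mul d).symm))
    · obtain ⟨v, hv⟩ := out 𝒟 g d
      obtain ⟨c, e⟩ := cr0 𝒟 d v hd (𝒟.cr_comm d v ▸ (k v).1)
      exact hv c e
  exact ⟨nd 𝒟 b fun v => by rw [mul_comm, (k v).2, hd, mul_zero, map_zero], hd⟩

theorem ex2 (h : 𝒟.D4) (b : K) (hb : b ≠ 0) : ∃ x y, 𝒟.T (x * b) = 0 ∧ 𝒟.T (y * b) = 0 ∧ 𝒟.cr x y = b := by
  obtain ⟨z, hz⟩ := surj 𝒟 b hb 1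
  obtain ⟨v, hv⟩ := out 𝒟 h z
  have e : 𝒟.T ((v - 𝒟.T (v * b) • z) * b) = 0 := by
    rw [sub_mul, smul_mul_assoc, map_sub, map_smul, mul_comm z, hz, smul_eq_mul, mul_one, sub_self]
  obtain ⟨d, hd⟩ := perp 𝒟 _ b (sub_ne_zero.2 (hv _)) e
  exact ⟨_, d, e, by rw [hd, 𝒟.cr_comm, 𝒟.T_cr_self], hd.symm⟩

end SLAj

open SLAj in
theorem sla : SLA := fun _ _ _ _ _ _ 𝒟 h =>
  { h with
    nd := nd 𝒟
    surj := surj 𝒟
    N0 := N0 𝒟
    cr0 := cr0 𝒟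
    perp := perp 𝒟
    perp2 := fun x y b n h1 h2 => cr0 𝒟 _ b n (by rw [id2, h1, h2, zero_smul, zero_smul, add_zero])
    det0 := fun x y z n k => let ⟨d, e⟩ := perp 𝒟 _ z n (mul_comm z _ ▸ k); ⟨_, _, e.trans (id2 𝒟 x y d)⟩
    zL := zL 𝒟 h
    ex2 := ex2 𝒟
    exd := fun _ _ _ n => let ⟨z, e⟩ := surj 𝒟 _ n 1; ⟨z, mul_comm z _ ▸ e⟩
    card := card 𝒟 h
    four := four 𝒟 h }

end CL.SY
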