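/-
Project SY: a subgroup `E ⊇ A` outside `Q` and `R` with `E ⊓ Q` invariant is not essential.
-/
import Cfsg.Agent.SY.Defs

set_option autoImplicit false

namespace CL.SY

open Subgroup Cfsg CL.Even CL.Grp
open scoped commutatorElement

universe u

namespace E2dx

variable {F K : Type} [Field F] [Field K] [Algebra F K] [CharP K 2] {𝒟 : Fd F K}

open Pt

theorem x3_zero : (x3 0 : Pt 𝒟) = 1 := rfl

theorem x3_eq {c : F} (h : (x3 c : Pt 𝒟) = 1) : c = 0 := congrArg Pt.c h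

theorem cA (p q : Pt 𝒟) : ⁅p, q⁆ ∈ A 𝒟 := ⟨comm_v p q, comm_t p q⟩

theorem cQ {p q : Pt 𝒟} (hp : p ∈ Q 𝒟) (hq : q ∈ Q 𝒟) : ⁅p, q⁆ ∈ Z 𝒟 := by
  rw [comm_Q hp hq]; exact ⟨rfl, rfl, rfl, rfl, rfl⟩

theorem cAB (p : Pt 𝒟) {q : Pt 𝒟} (hq : q ∈ A 𝒟) : ⁅p, q⁆ ∈ B 𝒟 :=
  ⟨comm_v p q, by rw [comm_d, (mem_A.1 hq).1, (mem_A.1 hq).2, smul_zero, zero_smul, add_zero], comm_t p q⟩

theorem cBL (p : Pt 𝒟) {q : Pt 𝒟} (hq : q ∈ B 𝒟) : ⁅p, q⁆ ∈ L 𝒟 :=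
  ⟨comm_v p q, by rw [comm_A_b p hq.1 hq.2.2, hq.2.1, Fd.cr_zero], (cAB p ⟨hq.1, hq.2.2⟩).2.1, comm_t p q⟩

theorem cZ (p : Pt 𝒟) {q : Pt 𝒟} (hq : q ∈ Z 𝒟) : ⁅p, q⁆ = 1 := by
  rw [comm_L p hq.1 hq.2.2.1 hq.2.2.2.1 hq.2.2.2.2, hq.2.1, mul_zero, x3_zero]

theorem cRL {p q : Pt 𝒟} (hp : p.t = 0) (hq : q ∈ L 𝒟) : ⁅p, q⁆ = 1 := by
  rw [comm_L p hq.1 hq.2.1 hq.2.2.1 hq.2.2.2, hp, zero_mul, x3_zero]

theorem memZ {p q : Pt 𝒟} (hp : p.t ≠ 0) (hq : q ∈ L 𝒟) (h : ⁅p, q⁆ = 1) : q ∈ Z 𝒟 := by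
  rw [comm_L p hq.1 hq.2.1 hq.2.2.1 hq.2.2.2] at h
  exact ⟨hq.1, (mul_eq_zero.1 (x3_eq h)).resolve_left hp, hq.2⟩

theorem cW {r y y' : Pt 𝒟} {w : K} {c c' : F} (hy : y ∈ A 𝒟) (hy' : y' ∈ A 𝒟) (e : y.d = c • w) (e' : y'.d = c' • w) :
    ⁅y', ⁅r, y⁆⁆ = 1 := by
  rw [comm_Q (mem_A.1 hy').1 (comm_v r y), (mem_A.1 hy').2, comm_t, (cAB r hy).2.1,
    comm_A_b r (mem_A.1 hy).1 (mem_A.1 hy).2, 𝒟.T_cr, e, e', 𝒟.cr_smul, 𝒟.cr_comm, 𝒟.cr_smul, 𝒟.cr_self]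
  simp [x3_zero]

theorem BA : B 𝒟 ≤ A 𝒟 := fun _ h => ⟨h.1, h.2.2⟩
theorem LA' : L 𝒟 ≤ A 𝒟 := fun _ h => ⟨h.1, h.2.2.2⟩
theorem ZA : Z 𝒟 ≤ A 𝒟 := fun _ h => ⟨h.1, h.2.2.2.2⟩

end E2dx

open E2dx in
theorem e2d : E2d.{u} := by
  intro G _ _ F K _ _ _ _ 𝒟 e h E H hE nQ nR hA hN
  have mm : ∀ {X : Subgroup (Pt 𝒟)} {p}, e p ∈ X.map e ↔ p ∈ X := mem_map_iff_mem h.inj
  have el : ∀ {x}, x ∈ E → ∃ p, e p = x := fun hx => hE.le hx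
  have mc : ∀ p q, ⁅e p, e q⁆ = e ⁅p, q⁆ := fun p q => (map_commutatorElement e p q).symm
  have c1 : ∀ {p q}, ⁅p, q⁆ = 1 → Commute (e p) (e q) := fun {p q} k =>
    commutatorElement_eq_one_iff_commute.1 (by rw [mc, k, map_one])
  have c2 : ∀ {p q}, Commute (e p) (e q) → ⁅p, q⁆ = 1 := fun {p q} k =>
    h.inj (by rw [← mc, commutatorElement_eq_one_iff_commute.2 k, map_one])
  obtain ⟨f, hf, fv, ft⟩ : ∃ f, e f ∈ E ∧ f.v ≠ 0 ∧ f.t ≠ 0 := by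
    obtain ⟨x, hx, k⟩ := SetLike.not_le_iff_exists.1 nQ
    obtain ⟨y, hy, k'⟩ := SetLike.not_le_iff_exists.1 nR
    obtain ⟨p, rfl⟩ := el hx
    obtain ⟨q, rfl⟩ := el hy
    have a : p.v ≠ 0 := fun a => k (mm.2 a)
    have b : q.t ≠ 0 := fun b => k' (mm.2 b)
    by_cases a' : p.t = 0
    · by_cases b' : q.v = 0
      · exact ⟨p * q, by rw [map_mul]; exact mul_mem hx hy, by rwa [Pt.mul_v, b', add_zero], by rwa [Pt.mul_t, a', zero_add]⟩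
      · exact ⟨q, hy, b', b⟩
    · exact ⟨p, hx, a, a'⟩
  have cA' : ∀ p, ∀ x ∈ E, ⁅e p, x⁆ ∈ gA e := fun p x hx => by
    obtain ⟨q, rfl⟩ := el hx
    rw [mc]; exact mm.2 (cA p q)
  have SN : ∀ p, e p ∈ 𝒩(E) := fun p => mem_norm_of_cj_le (by
    rintro _ ⟨x, hx, rfl⟩
    have := mul_mem (hA (cA' p x hx)) hx
    simpa [commutatorElement_def] using this)
  have NN : 𝒩(E) ≤ 𝒩(E) := le_rfl
  -- `Q ≤ E`
  have QE : gQ e ≤ E := by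
    rintro _ ⟨s, hs, rfl⟩
    have k : ∀ x ∈ E, ⁅e s, x⁆ ∈ E ⊓ gQ e := fun x hx => ⟨hA (cA' s x hx), map_mono inf_le_left (cA' s x hx)⟩
    refine hE.chain (le_norm_inf NN (le_norm_cent NN)) hN hN hN ⟨s, rfl⟩ (SN s) (fun x hx m => ?_) (fun x hx m => ?_)
      (fun x hx _ => k x hx) (fun x hx _ => k x hx) k
    · obtain ⟨q, rfl⟩ := el hx
      have : e q ∈ gL e := h.cA ▸ mem_inf.2 ⟨⟨q, rfl⟩, cent_mono hA m.2⟩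
      exact c1 (cZ s (memZ ft (mm.1 this) (c2 (comm_of_mem m.2 hf))))
    · obtain ⟨q, rfl⟩ := el hx
      have z := cQ hs (mm.1 m.2)
      rw [mc]
      refine ⟨hA (mm.2 (ZA z)), mem_centralizer_iff.2 fun y hy => ?_⟩
      obtain ⟨y, rfl⟩ := el hy
      exact c1 (cZ y z)
  rw [inf_eq_right.2 QE] at hN
  have nA : 𝒩(E) ≤ 𝒩(gA e) := fun g hg => mem_norm_of_cj_le (by
    rintro _ ⟨_, ⟨n, hn, rfl⟩, rfl⟩
    obtain ⟨m, hm, em⟩ := conj_mem (hN hg) (mm.2 (Pt.mem_A.1 hn).1 : e n ∈ gQ e)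
    obtain ⟨x, ex⟩ := el (conj_mem' hg hf)
    have k : e (⁅f, m⁆ * ⁅f, m⁆) = g * e (⁅x, n⁆ * ⁅x, n⁆) * g⁻¹ := by
      rw [map_mul, map_mul, ← mc, ← mc, em, ex]
      simp only [commutatorElement_def]; group
    rw [Pt.comm_sq f hm, Pt.comm_sq x (Pt.mem_A.1 hn).1, (Pt.mem_A.1 hn).2, zero_pow two_ne_zero, zero_mul, x3_zero,
      map_one, mul_one, mul_inv_cancel, ← map_one e] at k
    refine ⟨m, ⟨hm, ?_⟩, em⟩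
    exact pow_eq_zero_iff two_ne_zero |>.1 ((mul_eq_zero.1 (x3_eq (h.inj k))).resolve_right fun k => fv (h.N0 _ k)))
  have nL : 𝒩(E) ≤ 𝒩(gL e) := by
    have : gL e = gA e ⊓ 𝒞(gA e) := le_antisymm (le_inf (map_mono LA') (h.cA ▸ inf_le_right))
      (h.cA ▸ inf_le_inf_right _ (map_le_range _ _))
    rw [this]
    exact le_norm_inf nA (le_norm_cent nA)
  have hC : E ≤ 𝒩(gL e) := le_normalizer.trans nL
  have nW : 𝒩(E) ≤ 𝒩(gA e ⊓ up E (gL e) hC) := le_norm_inf nA (norm_up NN nL)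
  have BW : gB e ≤ gA e ⊓ up E (gL e) hC := by
    rintro _ ⟨y, hy, rfl⟩
    refine ⟨mm.2 (BA hy), hA (mm.2 (BA hy)), fun x hx => ?_⟩
    obtain ⟨x, rfl⟩ := el hx
    rw [← commutatorElement_inv, mc]
    exact inv_mem (mm.2 (cBL x hy))
  have dW : ∀ x ∈ gA e ⊓ up E (gL e) hC, ∃ y ∈ Pt.A 𝒟, e y = x ∧ ∃ c : F, y.d = c • f.v := by
    rintro _ ⟨⟨y, hy, rfl⟩, m⟩
    refine ⟨y, hy, rfl, h.cr0 _ _ fv ?_⟩
    have := inv_mem ((mem_up.1 m).2 _ hf)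
    rw [commutatorElement_inv, mc] at this
    rw [← Pt.comm_A_b f (Pt.mem_A.1 hy).1 (Pt.mem_A.1 hy).2]
    exact (mm.1 this).2.1
  have RE : ∀ s : Pt 𝒟, s.t = 0 → e s ∈ E := fun s hs => by
    have k : ∀ x ∈ gA e, ⁅e s, x⁆ ∈ gA e ⊓ up E (gL e) hC := by
      rintro _ ⟨y, hy, rfl⟩
      rw [mc]; exact BW (mm.2 (cAB s hy))
    refine hE.chain nL (le_norm_inf nW (le_norm_cent nW)) nW nA ⟨s, rfl⟩ (SN s) ?_ (fun x _ m => ?_) (fun x _ m => ?_)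
      (fun x _ m => k x m) (cA' s)
    · rintro _ _ ⟨y, hy, rfl⟩
      exact c1 (cRL hs hy)
    · obtain ⟨y, hy, rfl⟩ : x ∈ gB e := h.cB ▸ mem_inf.2 ⟨map_le_range _ _ m.1.1, cent_mono BW m.2⟩
      rw [mc]; exact mm.2 (cBL s hy)
    · refine ⟨k x m.1, mem_centralizer_iff.2 fun x' m' => ?_⟩
      obtain ⟨y, hy, rfl, c, ec⟩ := dW x m
      obtain ⟨y', hy', rfl, c', ec'⟩ := dW x' m'
      rw [mc]
      exact c1 (cW hy hy' ec ec')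
  refine hE.lt ?_
  rintro _ ⟨p, rfl⟩
  rw [← mul_inv_cancel_left (Pt.x0 p.v) p, map_mul]
  refine mul_mem (RE _ rfl) (QE (mm.2 ?_))
  rw [Pt.mem_Q, Pt.mul_v, Pt.inv_v]
  exact CharTwo.add_self_eq_zero _

end CL.SY
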