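/-
Project SY (S1770, helper75), job SY-E2z (helper74): an essential `E ⊇ B` outside `Q`, `R` has `Z(E) ≤ Z`.
-/
import Cfsg.Agent.SY.Defs

set_option autoImplicit false

namespace CL.SY

open Subgroup Cfsg CL.Even CL.Grp
open scoped commutatorElement

universe u

namespace E2zx

section Gen

variable {P : Type*} [Group P]

/-- `{x ∈ E | [x, C] ≤ D}` -/
def rel (E C D : Subgroup P) (h : E ≤ 𝒩(D)) : Subgroup P where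
  carrier := {x | x ∈ E ∧ ∀ y ∈ C, ⁅x, y⁆ ∈ D}
  one_mem' := ⟨one_mem _, fun y _ => by simp⟩
  mul_mem' := fun {a b} ha hb => ⟨mul_mem ha.1 hb.1, fun y hy => by
    rw [show ⁅a * b, y⁆ = a * ⁅b, y⁆ * a⁻¹ * ⁅a, y⁆ by simp only [commutatorElement_def]; group]
    exact mul_mem (conj_mem (h ha.1) (hb.2 y hy)) (ha.2 y hy)⟩
  inv_mem' := fun {a} ha => ⟨inv_mem ha.1, fun y hy => by
    rw [show ⁅a⁻¹, y⁆ = a⁻¹ * ⁅a, y⁆⁻¹ * a⁻¹⁻¹ by simp only [commutatorElement_def]; group]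
    exact conj_mem (h (inv_mem ha.1)) (inv_mem (ha.2 y hy))⟩

theorem sw {D : Subgroup P} {x y : P} (h : ⁅x, y⁆ ∈ D) : ⁅y, x⁆ ∈ D := commutatorElement_inv x y ▸ inv_mem h

theorem nrm {E D : Subgroup P} (h : ∀ x ∈ E, ∀ y ∈ D, ⁅x, y⁆ ∈ D) : E ≤ 𝒩(D) :=
  le_norm_of_commutator_le (commutator_le.2 fun y hy x hx => sw (h x hx y hy))

/-- the invariant subgroups and the chain lemma inside the Sylow subgroup -/
structure Ab (E : Subgroup P) (I : Subgroup P → Prop) : Prop where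
  self : I E
  bot : I ⊥
  rel : ∀ {C D : Subgroup P} (h : E ≤ 𝒩(D)), I C → I D → I (rel E C D h)
  comm : ∀ {C D : Subgroup P}, I C → I D → I ⁅C, D⁆
  sq : ∀ {C : Subgroup P}, I C → I (closure {x | ∃ y ∈ C, y * y = x})
  chain : ∀ {C₁ C₂ C₃ : Subgroup P} {s : P}, I C₁ → I C₂ → I C₃ → (∀ x ∈ E, ⁅x, s⁆ ∈ E) → (∀ x ∈ C₁, ⁅x, s⁆ = 1) →
    (∀ x ∈ C₂, ⁅x, s⁆ ∈ C₁) → (∀ x ∈ C₃, ⁅x, s⁆ ∈ C₂) → (∀ x ∈ E, ⁅x, s⁆ ∈ C₃) → s ∈ E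
  ker : ∀ {V : Subgroup P} {s t : P}, I V → (∀ x ∈ E, ∀ y ∈ V, ⁅x, y⁆ = 1) → (∀ y ∈ V, ⁅s, y⁆ = 1) →
    (∀ x ∈ E, ⁅x, s⁆ ∈ E) → s ∉ E → (∀ x ∈ E, ⁅x, t⁆ ∈ E) → t ∉ E → t * t ∈ E → ∀ y ∈ V, ⁅t, y⁆ = 1

theorem ab {G : Type u} [Group G] [Finite G] {e : P →* G} (inj : Function.Injective e) {E : Subgroup P} {H : Subgroup G}
    (h : EssT e.range (E.map e) H) : Ab E fun C => 𝒩(E.map e) ≤ 𝒩(C.map e) := by
  have m : ∀ {C : Subgroup P} {x : P}, e x ∈ C.map e ↔ x ∈ C := mem_map_iff_mem inj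
  have n : ∀ {s : P}, (∀ x ∈ E, ⁅x, s⁆ ∈ E) → e s ∈ 𝒩(E.map e) := fun {s} k => mem_norm_of_cj_le (by
    rintro _ ⟨_, ⟨x, hx, rfl⟩, rfl⟩
    exact ⟨_, mul_mem (sw (k x hx)) hx, by simp [commutatorElement_def]⟩)
  have c : ∀ {C : Subgroup P} {s x : P}, ⁅x, s⁆ ∈ C → ⁅e s, e x⁆ ∈ C.map e := fun k =>
    map_commutatorElement e _ _ ▸ m.2 (sw k)
  have z : ∀ {V : Subgroup P} {s : P}, e s ∈ 𝒞(V.map e) ↔ ∀ y ∈ V, ⁅s, y⁆ = 1 := fun {V s} =>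
    ⟨fun k y hy => commutatorElement_eq_one_iff_mul_comm.2 (inj (by
      rw [map_mul, map_mul]; exact (k _ (m.2 hy)).symm)), fun k => by
      rintro _ ⟨y, hy, rfl⟩
      rw [← map_mul, ← map_mul, commutatorElement_eq_one_iff_mul_comm.1 (k y hy)]⟩
  refine ⟨le_rfl, by rw [Subgroup.map_bot]; exact le_top.trans (normalizer_eq_top (⊥ : Subgroup G)).ge, fun _ h1 h2 g hg => mem_norm_of_cj_le ?_,
    fun h1 h2 => map_commutator _ _ e ▸ le_norm_commutator h1 h2, fun h1 g hg => mem_norm_of_cj_le ?_,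
    fun h1 h2 h3 k0 k1 k2 k3 k4 => m.1 (h.chain h1 h2 h3 h3 ⟨_, rfl⟩ (n k0) ?_ ?_ ?_ ?_ ?_),
    fun h1 k0 k1 k2 k3 k4 k5 k6 => z.1 (h.ker ?_ (le_norm_cent h1) (z.2 k1) ⟨_, rfl⟩ (n k2) (mt m.1 k3)
      ⟨⟨_, rfl⟩, n k4, mt m.1 k5, map_mul e _ _ ▸ m.2 k6⟩)⟩
  · rintro _ ⟨_, ⟨x, hx, rfl⟩, rfl⟩
    obtain ⟨x', hx', e1⟩ := conj_mem hg (m.2 hx.1)
    refine ⟨x', ⟨hx', fun y hy => ?_⟩, e1⟩
    obtain ⟨y', hy', e2⟩ := conj_mem' (h1 hg) (m.2 hy)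
    have := conj_mem (h2 hg) (m.2 (hx.2 y' hy'))
    rw [← m, map_commutatorElement, e1]
    rw [map_commutatorElement, e2] at this
    simpa [commutatorElement_def, mul_assoc] using this
  · rw [MonoidHom.map_closure, MonoidHom.map_closure, closure_le]
    rintro _ ⟨_, ⟨_, ⟨y, hy, rfl⟩, rfl⟩, rfl⟩
    obtain ⟨y', hy', e1⟩ := conj_mem (h1 hg) (m.2 hy)
    refine subset_closure ⟨_, ⟨y', hy', rfl⟩, ?_⟩
    rw [map_mul, e1, map_mul]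
    simp [mul_assoc]
  · rintro _ ⟨x, -, rfl⟩ k
    exact (commutatorElement_eq_one_iff_commute.1 (k1 x (m.1 k))).symm.map e
  · rintro _ ⟨x, -, rfl⟩ k
    exact c (k2 x (m.1 k))
  · rintro _ ⟨x, -, rfl⟩ k
    exact c (k3 x (m.1 k))
  · rintro _ ⟨x, hx, rfl⟩ -
    exact c (k4 x hx)
  · rintro _ ⟨x, hx, rfl⟩
    exact c (k4 x hx)
  · rintro _ ⟨x, hx, rfl⟩
    exact z.2 (k0 x hx)

end Gen

open Pt

variable {F K : Type} [Field F] [Field K] [Algebra F K] [CharP K 2] {𝒟 : Fd F K} {E : Subgroup (Pt 𝒟)}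
  {I : Subgroup (Pt 𝒟) → Prop} {f p q : Pt 𝒟}

theorem x3Z (c : F) : (x3 c : Pt 𝒟) ∈ Z 𝒟 := ⟨rfl, rfl, rfl, rfl, rfl⟩
theorem x1B (c : F) : (x1 c : Pt 𝒟) ∈ B 𝒟 := ⟨rfl, rfl, rfl⟩
theorem x2B (c : K) : (x2 c : Pt 𝒟) ∈ B 𝒟 := ⟨rfl, rfl, rfl⟩
theorem ZB : Z 𝒟 ≤ B 𝒟 := fun _ h => ⟨h.1, h.2.2.2⟩
theorem eqZ (h : p ∈ Z 𝒟) : p = x3 p.c := Pt.ext h.1 h.2.1 h.2.2.1 rfl h.2.2.2.1 h.2.2.2.2
theorem cZ (p : Pt 𝒟) (h : q ∈ Z 𝒟) : ⁅p, q⁆ = 1 := by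
  rw [comm_L p h.1 h.2.2.1 h.2.2.2.1 h.2.2.2.2, h.2.1, mul_zero]; rfl
theorem cZ' (p : Pt 𝒟) (h : q ∈ Z 𝒟) : ⁅q, p⁆ = 1 := by rw [← commutatorElement_inv, cZ p h, inv_one]
theorem cQ (hp : p.v = 0) (hq : q.v = 0) : ⁅p, q⁆ ∈ Z 𝒟 := comm_Q hp hq ▸ x3Z _
theorem cA (p : Pt 𝒟) (h0 : q.v = 0) (h5 : q.t = 0) : ⁅p, q⁆ ∈ B 𝒟 :=
  ⟨comm_v _ _, by rw [comm_d, h0, h5, smul_zero, zero_smul, add_zero], comm_t _ _⟩
theorem cBa (p : Pt 𝒟) (h : q ∈ B 𝒟) : ⁅p, q⁆.a = 𝒟.T (p.v * q.b) := by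
  rw [comm_A_a p h.1 h.2.2, h.2.1, mul_zero, map_zero, add_zero]
theorem cBb (p : Pt 𝒟) (h : q ∈ B 𝒟) : ⁅p, q⁆.b = 0 := by rw [comm_A_b p h.1 h.2.2, h.2.1, 𝒟.cr_zero]
theorem cBZ (h : q ∈ B 𝒟) (k : 𝒟.T (p.v * q.b) = 0) : ⁅p, q⁆ ∈ Z 𝒟 :=
  ⟨comm_v _ _, (cBa p h).trans k, cBb p h, (cA p h.1 h.2.2).2⟩
theorem cAB (h0 : p.v = 0) (h5 : p.t = 0) (h : q ∈ B 𝒟) : ⁅p, q⁆ = x3 (𝒟.T (p.d * q.b)) := by
  rw [comm_Q h0 h.1, h5, h.2.1, h.2.2]; simp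
theorem nZ : E ≤ 𝒩(Z 𝒟) := nrm fun x _ y hy => cZ x hy ▸ one_mem _
theorem v0 (l : 𝒟.LA) (h : ∀ b, ⁅p, (x2 b : Pt 𝒟)⁆ ∈ Z 𝒟) : p.v = 0 :=
  l.nd _ fun b => (cBa p (x2B b)).symm.trans (h b).2.1
theorem cr_line {x y u : K} {c d : F} (h1 : x = c • u) (h2 : y = d • u) : 𝒟.cr x y = 0 := by
  rw [h1, h2, 𝒟.cr_smul, 𝒟.cr_comm, 𝒟.cr_smul, 𝒟.cr_self, smul_zero, smul_zero]

theorem det (l : 𝒟.LA) {b x y z : K} (hb : b ≠ 0) (h1 : 𝒟.T (x * b) = 0) (h2 : 𝒟.T (y * b) = 0)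
    (h3 : 𝒟.T (z * b) = 0) : 𝒟.T (z * 𝒟.cr x y) = 0 := by
  by_cases h : 𝒟.cr x y = 0
  · rw [h, mul_zero, map_zero]
  obtain ⟨c, rfl⟩ := l.perp2 x y b h h1 h2
  rw [mul_smul_comm, map_smul, smul_eq_mul, mul_eq_zero] at h3
  exact h3.resolve_left fun e => hb (by rw [e, zero_smul])

/-- the `Z`-lemma -/
theorem zl (l : 𝒟.LA) (h : Ab E I) (hB : B 𝒟 ≤ E) (iZ : I (Z 𝒟)) {C : Subgroup (Pt 𝒟)} (iC : I C) (h1 : B 𝒟 ≤ C)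
    (h2 : ∀ x ∈ C, ∀ y ∈ C, 𝒟.cr x.v y.v = 0) (d : K) : x4 d ∈ E := by
  have m : ∀ x : Pt 𝒟, ⁅x, (x4 d : Pt 𝒟)⁆ ∈ B 𝒟 := fun x => cA x rfl rfl
  refine h.chain iZ (h.rel nZ iC iZ) iC (fun x _ => hB (m x)) (fun x hx => cZ' _ hx)
    (fun x hx => cQ (v0 l fun b => hx.2 _ (h1 (x2B b))) rfl) (fun x hx => ⟨hB (m x), fun y hy => sw (cBZ (m x) ?_)⟩)
    fun x _ => h1 (m x)
  rw [comm_A_b x rfl rfl, 𝒟.cr_comm, 𝒟.T_cr, h2 y hy x hx, mul_zero, map_zero]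

theorem nb (E : Subgroup (Pt 𝒟)) : E ≤ 𝒩((⊥ : Subgroup (Pt 𝒟))) := nrm fun x _ y hy => by simp [mem_bot.1 hy]

/-- the centre -/
abbrev V (E : Subgroup (Pt 𝒟)) : Subgroup (Pt 𝒟) := rel E E ⊥ (nb E)

theorem cV (hp : p ∈ E) (hq : q ∈ V E) : ⁅p, q⁆ = 1 := mem_bot.1 (sw (hq.2 p hp))
theorem nV (E : Subgroup (Pt 𝒟)) : E ≤ 𝒩(V E) := nrm fun x hx y hy => cV hx hy ▸ one_mem _

abbrev W (E : Subgroup (Pt 𝒟)) : Subgroup (Pt 𝒟) := rel E E (V E) (nV E)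

/-- the standing hypotheses -/
structure Hy (E : Subgroup (Pt 𝒟)) (I : Subgroup (Pt 𝒟) → Prop) (f p : Pt 𝒟) : Prop where
  l : 𝒟.LA
  a : Ab E I
  hB : B 𝒟 ≤ E
  fE : f ∈ E
  fv : f.v ≠ 0
  ft : f.t ≠ 0
  pV : p ∈ V E
  pZ : p ∉ Z 𝒟

namespace Hy

variable (h : Hy E I f p)
include h

theorem iV : I (V E) := h.a.rel _ h.a.self h.a.bot
theorem iW : I (W E) := h.a.rel _ h.a.self h.iV

theorem ZV (hq : q ∈ Z 𝒟) : q ∈ V E := ⟨h.hB (ZB hq), fun y _ => mem_bot.2 (cZ' y hq)⟩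

theorem VB (hq : q ∈ V E) : q ∈ B 𝒟 := by
  have k : ∀ y ∈ B 𝒟, ⁅q, y⁆ = 1 := fun y hy => mem_bot.1 (hq.2 y (h.hB hy))
  have h0 : q.v = 0 := v0 h.l fun b => k _ (x2B b) ▸ one_mem _
  have h5 : q.t = 0 := by
    have := congrArg Pt.c ((comm_L q (q := x1 1) rfl rfl rfl rfl).symm.trans (k _ (x1B 1)))
    exact (mul_one _).symm.trans this
  exact ⟨h0, h.l.nd _ fun b => congrArg Pt.c ((cAB h0 h5 (x2B b)).symm.trans (k _ (x2B b))), h5⟩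

theorem vz (hq : q ∈ V E) (hb : q.b = 0) : q ∈ Z 𝒟 := by
  obtain ⟨h0, h4, h5⟩ := h.VB hq
  have := congrArg Pt.c ((comm_L f h0 hb h4 h5).symm.trans (cV h.fE hq))
  exact ⟨h0, (mul_eq_zero.1 this).resolve_left h.ft, hb, h4, h5⟩

theorem b0 : p.b ≠ 0 := fun e => h.pZ (h.vz h.pV e)

theorem Uv {x : Pt 𝒟} (hx : x ∈ E) (hq : q ∈ V E) : 𝒟.T (x.v * q.b) = 0 :=
  (cBa x (h.VB hq)).symm.trans (congrArg Pt.a (cV hx hq))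

theorem Ud {x : Pt 𝒟} (hx : x ∈ E) (h0 : x.v = 0) (h5 : x.t = 0) (hq : q ∈ V E) : 𝒟.T (x.d * q.b) = 0 :=
  congrArg Pt.c ((cAB h0 h5 (h.VB hq)).symm.trans (cV hx hq))

theorem d4 : 𝒟.D4 := h.l.kind.resolve_left fun g => by
  obtain ⟨c, e⟩ := h.l.fix (f.v * p.b) (g.1 _)
  have k := h.Uv h.fE h.pV
  rw [← e, 𝒟.T_map] at k
  rw [k, map_zero] at e
  exact mul_ne_zero h.fv h.b0 e.symm

theorem nA (k : ∀ d, x4 d ∈ E) : False :=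
  h.b0 (h.l.nd _ fun d => by rw [mul_comm]; exact h.Ud (k d) rfl rfl h.pV)

theorem Wv (hq : q ∈ W E) : q.v = 0 := v0 h.l fun b => h.vz (hq.2 _ (h.hB (x2B b))) (cBb q (x2B b))

theorem Wt (hq : q ∈ W E) : q.t = 0 := by
  have := (h.VB (hq.2 f h.fE)).2.1
  rw [comm_d, h.Wv hq, smul_zero, add_zero] at this
  exact (smul_eq_zero.1 this).resolve_right h.fv

theorem BW (hq : q ∈ B 𝒟) (k : ∀ y ∈ E, 𝒟.T (y.v * q.b) = 0) : q ∈ W E :=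
  ⟨h.hB hq, fun y hy => sw (h.ZV (cBZ hq (k y hy)))⟩

theorem A0 {s : Pt 𝒟} (h0 : s.v = 0) (h5 : s.t = 0) (k : ∀ q ∈ V E, 𝒟.T (s.d * q.b) = 0) : s ∈ E := by
  have m : ∀ x ∈ E, ⁅x, s⁆ ∈ W E := fun x hx => h.BW (cA x h0 h5) fun y hy => by
    rw [comm_A_b x h0 h5]
    exact det h.l h.b0 (h.Uv hx h.pV) (k p h.pV) (h.Uv hy h.pV)
  refine h.a.chain h.iV h.iW h.iW (fun x _ => h.hB (cA x h0 h5)) (fun x hx => ?_)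
    (fun x hx => h.ZV (cQ (h.Wv hx) h0)) (fun x hx => m x hx.1) m
  rw [← commutatorElement_inv, cAB h0 h5 (h.VB hx), k x hx, inv_eq_one]; rfl

theorem iZ (k : ∀ x ∈ E, ∀ y ∈ W E, 𝒟.cr x.v y.d = 0) : I (Z 𝒟) := by
  have e : ⁅E, W E⁆ = Z 𝒟 := le_antisymm (commutator_le.2 fun x hx y hy => h.vz (sw (hy.2 x hx))
    ((comm_A_b x (h.Wv hy) (h.Wt hy)).trans (k x hx y hy))) fun z hz => by
      have := commutator_mem_commutator h.fE (h.BW (x1B (z.c / f.t)) fun y _ => by simp [x1])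
      rw [comm_L f rfl rfl rfl rfl] at this
      rwa [eqZ hz, ← mul_div_cancel₀ z.c h.ft]
  exact e ▸ h.a.comm h.a.self h.iW

theorem caseA (hq : q ∈ V E) (k : 𝒟.cr p.b q.b ≠ 0) : False := by
  have m : ∀ {x y : K}, (∀ r ∈ V E, 𝒟.T (x * r.b) = 0) → (∀ r ∈ V E, 𝒟.T (y * r.b) = 0) → 𝒟.cr x y = 0 :=
    fun {x y} h1 h2 => by
      obtain ⟨c, e1⟩ := h.l.perp2 _ _ x k (by rw [mul_comm]; exact h1 p h.pV) (by rw [mul_comm]; exact h1 q hq)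
      obtain ⟨d, e2⟩ := h.l.perp2 _ _ y k (by rw [mul_comm]; exact h2 p h.pV) (by rw [mul_comm]; exact h2 q hq)
      exact cr_line e1 e2
  exact h.nA (zl h.l h.a h.hB (h.iZ fun x hx y hy => m (fun r => h.Uv hx) fun r => h.Ud hy.1 (h.Wv hy) (h.Wt hy))
    h.a.self h.hB fun x hx y hy => m (fun r => h.Uv hx) fun r => h.Uv hy)

theorem x0E (k : ∀ q ∈ V E, 𝒟.cr p.b q.b = 0) {w : K} (hw : 𝒟.T (w * p.b) = 0) : x0 w ∈ E := by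
  have m : ∀ {y : K}, 𝒟.T (y * p.b) = 0 → ∀ q ∈ V E, 𝒟.T (y * q.b) = 0 := fun hy q hq => by
    obtain ⟨c, e⟩ := h.l.cr0 _ _ h.b0 (k q hq)
    rw [e, mul_smul_comm, map_smul, hy, smul_zero]
  by_contra hn
  obtain ⟨d, hd⟩ := h.l.surj _ h.b0 1
  rw [mul_comm] at hd
  have n4 : x4 d ∉ E := fun e => one_ne_zero (hd.symm.trans (h.Ud e rfl rfl h.pV))
  have := h.a.ker (s := x0 w) (t := x4 d) h.iV (fun x hx y hy => cV hx hy) (fun y hy => by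
      obtain ⟨h0, h4, h5⟩ := h.VB hy
      rw [comm_RB rfl h0 h4 h5, show 𝒟.T ((x0 w : Pt 𝒟).v * y.b) = 0 from m hw y hy]
      simp only [x0, zero_mul, map_zero]
      exact mul_one (1 : Pt 𝒟))
    (fun x _ => h.A0 (comm_v _ _) (comm_t _ _) (m (by
      rw [comm_d]
      simp only [x0, zero_smul, add_zero, smul_mul_assoc, map_smul, hw, smul_zero]))) hn
    (fun x _ => h.hB (cA x rfl rfl)) n4 (h.hB (ZB (sq_Q (p := (x4 d : Pt 𝒟)) rfl ▸ x3Z _))) p h.pV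
  exact one_ne_zero (hd.symm.trans (congrArg Pt.c ((cAB rfl rfl (h.VB h.pV)).symm.trans this)))

theorem caseB1 (k : ∀ q ∈ V E, 𝒟.cr p.b q.b = 0) (k1 : ∀ y ∈ W E, y.d = 0) : False := by
  have nW : E ≤ 𝒩(W E) := nrm fun x hx y hy => ⟨(hy.2 x hx |> sw).1, fun z hz => sw (cV hz (sw (hy.2 x hx)) ▸ one_mem _)⟩
  obtain ⟨w, w', h1, -, h2⟩ := h.l.ex2 h.d4 _ h.b0
  have hw : w ≠ 0 := fun e => h.b0 (by rw [← h2, e, 𝒟.cr_comm, 𝒟.cr_zero])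
  have m : ∀ x ∈ rel E E (W E) nW, x.v = 0 := fun x hx => by
    have e1 := k1 _ (hx.2 _ (h.x0E k h1))
    have e2 := k1 _ (hx.2 _ h.fE)
    rw [comm_d] at e1 e2
    have e3 : x.t = 0 := (smul_eq_zero.1 (by simpa [x0] using e1)).resolve_right hw
    rw [e3, zero_smul, zero_add] at e2
    exact (smul_eq_zero.1 e2).resolve_left h.ft
  exact h.nA (zl h.l h.a h.hB (h.iZ fun x _ y hy => by rw [k1 y hy, 𝒟.cr_zero]) (h.a.rel nW h.a.self h.iW)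
    (fun x hx => ⟨h.hB hx, fun y _ => sw (h.BW (cA y hx.1 hx.2.2) fun z _ => by rw [cBb y hx, mul_zero, map_zero])⟩)
    fun x _ y hy => by rw [m y hy, 𝒟.cr_zero])

theorem caseB2 (k : ∀ q ∈ V E, 𝒟.cr p.b q.b = 0) {y : Pt 𝒟} (hy : y ∈ W E) (hd : y.d ≠ 0) : False := by
  have := 𝒟.charF
  have h0 := h.Wv hy
  have h5 := h.Wt hy
  have m : ∀ c : F, c * 𝒟.T (y.d * y.b) + c ^ 2 * 𝒟.N y.d = 0 := fun c => by
    have h1 : x0 (c • y.d) ∈ E := h.x0E k (by rw [smul_mul_assoc, map_smul, h.Ud hy.1 h0 h5 h.pV, smul_zero])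
    have h2 := (h.vz (sw (hy.2 _ h1)) ((comm_A_b _ h0 h5).trans (cr_line rfl (one_smul F _).symm))).2.1
    rw [comm_A_a _ h0 h5] at h2
    simpa only [x0, 𝒟.adj_smul, smul_mul_assoc, map_smul, 𝒟.T_adj, smul_eq_mul] using h2
  have hN : 𝒟.N y.d ≠ 0 := fun e => hd (h.l.N0 _ e)
  have e1 : 𝒟.T (y.d * y.b) = 𝒟.N y.d := by
    have := m 1
    grind
  have two : ∀ c : F, c = 0 ∨ c = 1 := fun c => by
    have := m c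
    rw [e1] at this
    have h2 : c * (c - 1) * 𝒟.N y.d = 0 := by grind
    exact (mul_eq_zero.1 ((mul_eq_zero.1 h2).resolve_right hN)).imp_right sub_eq_zero.1
  have e : closure {x | ∃ y ∈ W E, y * y = x} = Z 𝒟 := le_antisymm ((closure_le _).2 (by
    rintro _ ⟨z, hz, rfl⟩
    exact sq_Q (h.Wv hz) ▸ x3Z _)) fun z hz => by
      rw [eqZ hz]
      rcases two z.c with e | e <;> rw [e]
      · exact one_mem _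
      · exact subset_closure ⟨y, hy, by rw [sq_Q h0, h5, zero_mul, zero_add, e1, (two _).resolve_left hN]⟩
  have iZ : I (Z 𝒟) := e ▸ h.a.sq h.iW
  have t : ∀ x ∈ rel E (W E) (Z 𝒟) nZ, ∃ c : F, x.v = c • y.d := fun x hx =>
    h.l.cr0 _ _ hd (by rw [𝒟.cr_comm, ← comm_A_b x h0 h5]; exact (hx.2 y hy).2.2.1)
  refine h.nA (zl h.l h.a h.hB iZ (h.a.rel nZ h.iW iZ) (fun x hx => ⟨h.hB hx, fun z hz => cQ hx.1 (h.Wv hz)⟩)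
    fun x hx x' hx' => ?_)
  obtain ⟨c, e1⟩ := t x hx
  obtain ⟨c', e2⟩ := t x' hx'
  exact cr_line e1 e2

theorem no : False := by
  by_cases k : ∀ q ∈ V E, 𝒟.cr p.b q.b = 0
  · by_cases k1 : ∀ y ∈ W E, y.d = 0
    · exact h.caseB1 k k1
    · push Not at k1
      obtain ⟨y, hy, hd⟩ := k1
      exact h.caseB2 k hy hd
  · push Not at k
    obtain ⟨q, hq, k⟩ := k
    exact h.caseA hq k

end Hy

end E2zx

open E2zx in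
theorem e2z : E2z.{u} := by
  intro G _ _ F K _ _ _ _ 𝒟 e s E0 H h h1 h2 hB x hx hc
  obtain ⟨E, rfl⟩ : ∃ E : Subgroup (Pt 𝒟), E.map e = E0 := ⟨_, map_comap_eq_self h.le⟩
  obtain ⟨f, hf, k1, k2⟩ : ∃ f ∈ E, f.v ≠ 0 ∧ f.t ≠ 0 := by
    obtain ⟨a, ha, a1⟩ := SetLike.not_le_iff_exists.1 (mt map_mono h1)
    obtain ⟨b, hb, b1⟩ := SetLike.not_le_iff_exists.1 (mt map_mono h2)
    by_cases a2 : a.t = 0
    · by_cases b2 : b.v = 0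
      · exact ⟨a * b, mul_mem ha hb, by rwa [Pt.mul_v, b2, add_zero], by rwa [Pt.mul_t, a2, zero_add]⟩
      · exact ⟨b, hb, b2, b1⟩
    · exact ⟨a, ha, a1, a2⟩
  obtain ⟨p, hp, rfl⟩ := hx
  by_contra hn
  exact Hy.no ⟨s.toLA, ab s.inj h, (map_le_map_iff_of_injective s.inj).1 hB, hf, k1, k2,
    ⟨hp, fun y hy => mem_bot.2 (s.inj (by
      rw [map_commutatorElement, map_one]
      exact commutatorElement_eq_one_iff_commute.2 (hc _ ⟨y, hy, rfl⟩)))⟩, fun k => hn ⟨p, k, rfl⟩⟩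

end CL.SY
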