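/-
Project SY: the subgroup `B X₀` is not essential.
-/
import Cfsg.Agent.SY.Defs

set_option autoImplicit false
set_option linter.unusedSectionVars false

namespace CL.SY

open Subgroup Cfsg CL.Even CL.Grp
open scoped commutatorElement

universe u

namespace E3dx

open Pt

variable {F K : Type} [Field F] [Field K] [Algebra F K] [CharP K 2] {𝒟 : Fd F K} {p q : Pt 𝒟} {d : K}

theorem comm_iff (p4 : p.d = 0) (p5 : p.t = 0) (q4 : q.d = 0) (q5 : q.t = 0) :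
    p * q = q * p ↔ 𝒟.T (q.v * p.b) = 𝒟.T (p.v * q.b) := by
  refine ⟨fun h => ?_, fun h => Pt.ext ?_ ?_ ?_ ?_ ?_ ?_⟩
  · have := congrArg Pt.a h
    simp only [mul_a, p4, p5, q4, q5, mul_zero, zero_mul, map_zero, add_zero] at this
    linear_combination this
  · rw [mul_v, mul_v, add_comm]
  · simp only [mul_a, p4, p5, q4, q5, mul_zero, zero_mul, map_zero, add_zero, h]; ring
  · simp only [mul_b, p4, p5, q4, q5, zero_smul, Fd.cr_zero, add_zero, add_comm]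
  · simp [mul_c, p4, p5, q4, q5, Fd.adj_zero, add_comm]
  · simp [mul_d, p4, p5, q4, q5]
  · rw [mul_t, mul_t, add_comm]

theorem conj4 (p4 : p.d = 0) (p5 : p.t = 0) : (x4 d * p * (x4 d)⁻¹).d = 0 ∧ (x4 d * p * (x4 d)⁻¹).t = 0 := by
  constructor
  · simp [mul_d, mul_t, inv_d, x4, p4, p5, CharTwo.add_self_eq_zero]
  · simp [mul_t, inv_t, x4, p5]

theorem comm4_B (p5 : p.t = 0) : ⁅(x4 d : Pt 𝒟), p⁆ ∈ B 𝒟 := ⟨comm_v _ _, by simp [comm_d, x4, p5], comm_t _ _⟩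

theorem comm4_b (p5 : p.t = 0) : ⁅(x4 d : Pt 𝒟), p⁆.b = 𝒟.cr p.v d := by
  rw [comm_R_b rfl p5, 𝒟.cr_comm (x4 d : Pt 𝒟).v]
  simp [x4, Fd.cr_zero]

theorem comm4_L (p5 : p.t = 0) (h : 𝒟.cr p.v d = 0) : ⁅(x4 d : Pt 𝒟), p⁆ ∈ L 𝒟 :=
  ⟨comm_v _ _, (comm4_b p5).trans h, (comm4_B p5).2⟩

theorem comm4_one (h : p ∈ L 𝒟) : Commute (x4 d) p := by
  rw [← commutatorElement_eq_one_iff_commute, comm_L _ h.1 h.2.1 h.2.2.1 h.2.2.2]
  simp [x4, x3, one_def]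

theorem sq4 : (x4 d : Pt 𝒟) ^ 2 ^ 1 = 1 := by
  rw [pow_one, pow_two, sq_Q rfl]
  simp [x4, x3, one_def]

theorem cr0 (d : K) : 𝒟.cr 0 d = 0 := by rw [𝒟.cr_comm, 𝒟.cr_zero]

theorem three (h : 𝒟.LA) {x y z b : K} (hb : b ≠ 0) (hx : 𝒟.T (x * b) = 0) (hy : 𝒟.T (y * b) = 0)
    (hz : 𝒟.T (z * b) = 0) : 𝒟.T (z * 𝒟.cr x y) = 0 := by
  by_cases k : 𝒟.cr x y = 0
  · rw [k, mul_zero, map_zero]
  obtain ⟨c, rfl⟩ := h.perp2 x y b k hx hy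
  rw [mul_smul_comm, map_smul, smul_eq_zero] at hz
  exact hz.resolve_left fun e => hb (by rw [e, zero_smul])

theorem v_zero (h : 𝒟.LA) (p4 : p.d = 0) (p5 : p.t = 0) (k : ∀ b, p * x2 b = x2 b * p) : p.v = 0 :=
  h.nd _ fun b => by simpa [x2] using ((comm_iff p4 p5 rfl rfl).1 (k b)).symm

variable {G : Type u} [Group G] [Finite G] {e : Pt 𝒟 →* G} {E H : Subgroup G}

theorem core (h : 𝒟.LA) (inj : Function.Injective e) (T : EssT (gS e) E H)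
    (hE : ∀ g, g ∈ E ↔ ∃ p, p.d = 0 ∧ p.t = 0 ∧ e p = g) : False := by
  have mE : ∀ {p : Pt 𝒟}, p.d = 0 → p.t = 0 → e p ∈ E := fun h1 h2 => (hE _).2 ⟨_, h1, h2, rfl⟩
  have ci : ∀ {p q : Pt 𝒟}, e p * e q = e q * e p ↔ p * q = q * p := by
    intro p q; rw [← map_mul, ← map_mul, inj.eq_iff]
  have zL : gL e = E ⊓ 𝒞(E) := by
    refine le_antisymm ?_ fun x hx => ?_
    · rintro _ ⟨p, hp, rfl⟩
      refine ⟨mE hp.2.2.1 hp.2.2.2, fun y hy => ?_⟩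
      obtain ⟨q, q4, q5, rfl⟩ := (hE _).1 hy
      exact ci.2 ((comm_iff q4 q5 hp.2.2.1 hp.2.2.2).2 (by simp [hp.1, hp.2.1]))
    · obtain ⟨p, p4, p5, rfl⟩ := (hE _).1 hx.1
      refine mem_map_of_mem e ⟨v_zero h p4 p5 fun b => ci.1 (hx.2 _ (mE rfl rfl)).symm, h.nd _ fun v => ?_, p4, p5⟩
      simpa [x0, mul_comm] using (comm_iff p4 p5 rfl rfl).1 (ci.1 (hx.2 _ (mE (p := x0 v) rfl rfl)).symm)
  have nL : 𝒩(E) ≤ 𝒩(gL e) := zL ▸ le_norm_inf le_rfl (norm_le_norm_cent E)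
  have n4 : ∀ d, e (x4 d) ∈ 𝒩(E) := fun d => mem_norm_of_cj_le (by
    rintro _ ⟨x, hx, rfl⟩
    obtain ⟨p, p4, p5, rfl⟩ := (hE _).1 hx
    simpa using mE (conj4 (d := d) p4 p5).1 (conj4 (d := d) p4 p5).2)
  have o4 : ∀ d, d ≠ 0 → e (x4 d) ∉ E := fun d hd m => by
    obtain ⟨p, p4, -, k⟩ := (hE _).1 m
    rw [inj k] at p4
    exact hd p4
  have c1 : ∀ d, ∀ x ∈ E, x ∈ gL e → Commute (e (x4 d)) x := by
    rintro d _ - ⟨p, hp, rfl⟩; exact (comm4_one hp).map e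
  have cB : ∀ d, ∀ x ∈ E, ⁅e (x4 d), x⁆ ∈ gB e := fun d x hx => by
    obtain ⟨p, -, p5, rfl⟩ := (hE _).1 hx
    rw [← map_commutatorElement]
    exact mem_map_of_mem e (comm4_B p5)
  have cL : ∀ d {p : Pt 𝒟}, p.t = 0 → 𝒟.cr p.v d = 0 → ⁅e (x4 d), e p⁆ ∈ gL e := fun d p p5 k => by
    rw [← map_commutatorElement]
    exact mem_map_of_mem e (comm4_L p5 k)
  rcases h.kind with k | k
  · have c2 : ∀ x ∈ E, ⁅e (x4 1), x⁆ ∈ gL e := fun x hx => by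
      obtain ⟨p, -, p5, rfl⟩ := (hE _).1 hx
      exact cL 1 p5 (k.cr_eq _ _)
    exact o4 1 one_ne_zero (T.chain nL nL nL nL ⟨_, rfl⟩ (n4 1) (c1 1) (fun x hx _ => c2 x hx) (fun x hx _ => c2 x hx)
      (fun x hx _ => c2 x hx) c2)
  by_cases nB : 𝒩(E) ≤ 𝒩(gB e)
  · refine o4 1 one_ne_zero (T.chain nL nB nB nB ⟨_, rfl⟩ (n4 1) (c1 1) ?_ (fun x hx _ => cB 1 x hx)
      (fun x hx _ => cB 1 x hx) (cB 1))
    rintro _ - ⟨p, hp, rfl⟩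
    exact cL 1 hp.2.2 (by rw [hp.1, cr0])
  obtain ⟨g, g1, g2, g3⟩ : ∃ g ∈ 𝒩(E), g ∉ H ∧ g ∉ 𝒩(gB e) := by
    by_contra! k
    obtain ⟨g, g1, g2⟩ := T.ne
    refine nB fun x hx => by_contra fun m => m ?_
    have xH : x ∈ H := by_contra fun m' => m (k x hx m')
    exact (mul_mem_cancel_right (k g g1 g2)).1 (k _ (mul_mem hx g1) fun m' => g2 ((mul_mem_cancel_left xH).1 m'))
  obtain ⟨m, hm, g4⟩ : ∃ m ∈ B 𝒟, g * e m * g⁻¹ ∉ gB e := by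
    by_contra! k
    exact g3 (mem_norm_of_cj_le (by rintro _ ⟨_, ⟨m, hm, rfl⟩, rfl⟩; exact k m hm))
  obtain ⟨m', m4, m5, em⟩ := (hE _).1 (conj_mem g1 (mE hm.2.1 hm.2.2))
  have v0 : m'.v ≠ 0 := fun k => g4 (em ▸ mem_map_of_mem e ⟨k, m4, m5⟩)
  have b0 : m.b ≠ 0 := fun k => by
    obtain ⟨p, hp, k'⟩ := conj_mem (nL g1) (mem_map_of_mem e (show m ∈ L 𝒟 from ⟨hm.1, k, hm.2⟩))
    exact g4 ⟨p, ⟨hp.1, hp.2.2⟩, k'⟩
  obtain ⟨d, y, d1, -, d2⟩ := h.ex2 k _ b0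
  have d0 : d ≠ 0 := fun k => b0 (by rw [← d2, k, cr0])
  have nW : ∀ w ∈ 𝒩(E), ⁅w, e m⁆ ∈ gL e → w ∈ 𝒩(E ⊓ centralizer {e m}) := fun w hw k => mem_norm_of_cj_le (by
    rintro _ ⟨x, hx, rfl⟩
    have h1 := conj_mem hw hx.1
    have h2 := (zL.le k).2 _ h1
    have h3 := mem_centralizer_singleton_iff.1 hx.2
    refine ⟨h1, mem_centralizer_singleton_iff.2 (mul_left_cancel (a := ⁅w, e m⁆) ?_)⟩
    change _ * (w * x * w⁻¹ * e m) = _ * (e m * (w * x * w⁻¹))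
    rw [← mul_assoc, ← h2, commutatorElement_def]
    calc _ = w * (x * e m) * w⁻¹ := by group
      _ = _ := by rw [h3]; group)
  have mC : ∀ {p : Pt 𝒟}, p.d = 0 → p.t = 0 → (e p ∈ centralizer {e m} ↔ 𝒟.T (p.v * m.b) = 0) := fun {p} p4 p5 => by
    rw [mem_centralizer_singleton_iff, ci, comm_iff p4 p5 hm.2.1 hm.2.2, hm.1, zero_mul, map_zero, eq_comm]
  have BC : gB e ≤ E ⊓ centralizer {e m} := by
    rintro _ ⟨p, hp, rfl⟩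
    exact ⟨mE hp.2.1 hp.2.2, (mC hp.2.1 hp.2.2).2 (by rw [hp.1, zero_mul, map_zero])⟩
  have tW : e (x4 d) ∈ 𝒩(E) ⊓ 𝒩(E ⊓ centralizer {e m}) := ⟨n4 d, nW _ (n4 d) (cL d hm.2.2 (by rw [hm.1, cr0]))⟩
  have n5 := conj_mem (le_normalizer (inv_mem g1)) (n4 m'.v)
  refine o4 d d0 (T.chainW (W := 𝒩(E) ⊓ 𝒩(E ⊓ centralizer {e m})) (C₁ := gL e) (C₂ := 𝒞(E ⊓ centralizer {e m}))
    (g := g⁻¹) inf_le_left (inv_mem g1) (fun k => g2 (inv_mem_iff.1 k)) ⟨_, rfl⟩ (o4 d d0) ⟨_, rfl⟩ (n4 m'.v) (o4 _ v0) tW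
    ⟨n5, nW _ n5 ?_⟩ (inf_le_left.trans nL) (le_norm_cent inf_le_right) inf_le_right inf_le_right tW
    ⟨1, by rw [← map_pow, sq4, map_one]⟩ (c1 d) (fun x hx k => ?_) (fun x hx k y hy => ?_) (fun x hx _ => BC (cB d x hx))
    fun x hx => BC (cB d x hx))
  · have := conj_mem (nL (inv_mem g1)) (cL m'.v m5 (𝒟.cr_self _))
    rw [em] at this
    simpa [commutatorElement_def, mul_assoc] using this
  · obtain ⟨p, p4, p5, rfl⟩ := (hE _).1 hx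
    exact cL d p5 (by rw [v_zero h p4 p5 fun b => ci.1 (k _ (BC (mem_map_of_mem e ⟨rfl, rfl, rfl⟩))).symm, cr0])
  · obtain ⟨p, p4, p5, rfl⟩ := (hE _).1 hx
    obtain ⟨q, q4, q5, rfl⟩ := (hE _).1 hy.1
    have hB := comm4_B (d := d) p5
    rw [← map_commutatorElement, ci, comm_iff q4 q5 hB.2.1 hB.2.2, hB.1, zero_mul, map_zero, comm4_b p5]
    exact (three h b0 ((mC p4 p5).1 k.2) d1 ((mC q4 q5).1 hy.2)).symm

end E3dx

theorem e3d : E3d.{u} := by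
  intro G _ _ F K _ _ _ _ 𝒟 e h E H s T hE
  have hS : gS (e.comp (MulAut.conj (Pt.x5 s)⁻¹).toMonoidHom) = gS e := by
    rw [gS, MonoidHom.range_comp, MonoidHom.range_eq_top.2 (MulAut.conj (Pt.x5 s)⁻¹).surjective, ← MonoidHom.range_eq_map]
  refine E3dx.core (e := e.comp (MulAut.conj (Pt.x5 s)⁻¹).toMonoidHom) h.toSt.toLA
    (h.inj.comp (MulAut.conj (Pt.x5 s)⁻¹).injective) (hS ▸ T) fun g => (hE g).trans (exists_congr fun p =>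
      and_congr_right fun _ => and_congr_right fun _ => ?_)
  change _ ↔ e ((Pt.x5 s)⁻¹ * p * (Pt.x5 s)⁻¹⁻¹) = g
  rw [map_mul, map_mul, inv_inv, map_inv]
  exact ⟨fun k => by rw [k]; group, fun k => by rw [← k]; group⟩

end CL.SY
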