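/-
Project SY (S1770), step Q3: for `q = 2` the centralizer of an element of `B ∖ L` is 2-constrained.
-/
import Cfsg.Agent.SY.Defs
import Cfsg.Agent.Inv.Misc2
import Cfsg.Agent.S1250

set_option autoImplicit false

namespace CL.SY.Q3x

open Subgroup Cfsg CL.Even CL.Grp CL.Loc CL.Inv Pt
open scoped commutatorElement

universe u

/-- `GA` applied modulo the odd core -/
theorem gaC (hG : GA.{u}) {X : Type u} [Group X] [Finite X] {Y : Type*} [Group Y] (ψ : Y →* X) (V : Subgroup Y)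
    (hψ : Function.Injective ψ) (hT : IsSylowIn 2 ψ.range ⊤) (sc : IsStronglyClosed (V.map ψ) ψ.range)
    (ab : ∀ a ∈ V, ∀ b ∈ V, Commute a b) (cm : V ≤ ⁅𝒞(V), 𝒞(V)⁆)
    (t0 : ∀ T₀ : Subgroup Y, T₀.Normal → (∀ x ∈ T₀, x * x = 1 → x ∈ V) → T₀ ≤ V)
    (hc : IsPConstrained 2 𝒞(V.map ψ)) : IsPConstrained 2 X := by
  haveI : Fact (Nat.Prime 2) := ⟨Nat.prime_two⟩
  have hcop := pPrimeCore_coprime 2 X
  let π := QuotientGroup.mk' (pPrimeCore 2 X)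
  let φ := π.comp ψ
  have hφ : Function.Injective φ := (injective_iff_map_eq_one φ).2 fun y hy => by
    have h1 : ψ y ∈ pPrimeCore 2 X := (QuotientGroup.eq_one_iff _).1 hy
    have h2 : ψ y = 1 := eq_one_of_coprime_of_mem hT.2.1
      (Nat.Coprime.coprime_dvd_left ((pPrimeCore 2 X).orderOf_dvd_natCard h1) hcop) ⟨y, rfl⟩
    exact hψ (by rw [h2, map_one])
  obtain ⟨S, hS⟩ := isSylowIn_top_iff.1 hT
  have e1 : φ.range = (S : Subgroup X).map π := by rw [hS, MonoidHom.range_comp]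
  have e2 : V.map φ = (V.map ψ).map π := (map_map _ _ _).symm
  have hV : IsPGroup 2 (V.map ψ) := hT.2.1.to_le sc.1
  haveI hn : (V.map φ).Normal := by
    refine hG _ φ.range (V.map φ) (pPrimeCore_quotient_pPrimeCore 2 X) ?_ ?_ ?_ ?_ ?_
    · rw [e1]
      exact isSylowIn_top (S.mapSurjective (QuotientGroup.mk'_surjective _))
    · rw [e1, e2]
      exact Cfsg.Agent.S1250.result S _ (hS ▸ sc) _
    · rintro _ ⟨a, ha, rfl⟩ _ ⟨b, hb, rfl⟩
      exact (ab a ha b hb).map φ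
    · have : (𝒞(V)).map φ ≤ φ.range ⊓ 𝒞(V.map φ) := by
        rintro _ ⟨a, ha, rfl⟩
        refine ⟨⟨a, rfl⟩, ?_⟩
        rintro _ ⟨b, hb, rfl⟩
        rw [← map_mul, ← map_mul, comm_of_mem ha hb]
      refine (map_mono cm).trans ?_
      rw [map_commutator]
      exact commutator_mono this this
    · intro T₀ _ h2 h3 h4 x hx
      obtain ⟨y, rfl⟩ := h2 hx
      refine mem_map_of_mem φ (t0 (T₀.comap φ) ⟨fun a ha g => ?_⟩ (fun a ha haa => ?_) hx)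
      · rw [mem_comap, map_mul, map_mul, map_inv]
        exact conj_mem (h3 ⟨g, rfl⟩) ha
      · obtain ⟨b, hb, e⟩ := h4 _ ha (by rw [← map_mul, haa, map_one])
        exact hφ e ▸ hb
  refine (isPConstrained_quotient_iff _ hcop).2 (isPConstrained_of_normal_centralizer (T := V.map φ)
    (e2 ▸ hV.map π) ?_)
  rw [e2, ← map_centralizer_quotient_of_coprime hcop hV,
    ← isPConstrained_subgroup_iff_map _ (by rwa [QuotientGroup.ker_mk'])]
  exact hc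

theorem idx3 {X : Type*} [Group X] [Finite X] {p s s' : X} (h1 : ⁅s, p⁆ ≠ 1) (h2 : ⁅s', p⁆ ≠ 1)
    (h3 : ⁅s, p⁆ ≠ ⁅s', p⁆) : 3 ≤ (centralizer ({p} : Set X)).index := by
  have key : ∀ a b : X, (a : X ⧸ centralizer ({p} : Set X)) = b → ⁅a, p⁆ = ⁅b, p⁆ := by
    intro a b h
    have := mem_centralizer_singleton_iff.1 (QuotientGroup.eq.1 h)
    simp only [commutatorElement_def]
    calc a * p * a⁻¹ * p⁻¹ = a * (p * (a⁻¹ * b)) * b⁻¹ * p⁻¹ := by group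
      _ = a * (a⁻¹ * b * p) * b⁻¹ * p⁻¹ := by rw [this]
      _ = _ := by group
  haveI := Fintype.ofFinite (X ⧸ centralizer ({p} : Set X))
  rw [index, Nat.card_eq_fintype_card]
  exact Fintype.two_lt_card_iff.2 ⟨(1 : X), s, s', fun h => h1 (by simpa using (key _ _ h).symm),
    fun h => h2 (by simpa using (key _ _ h).symm), fun h => h3 (key _ _ h)⟩

theorem idx4 {X Y : Type*} [Group X] [Finite Y] {p : X} (f : X → Y) (hf : ∀ a b, f a = f b → ⁅a, p⁆ = ⁅b, p⁆) :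
    (centralizer ({p} : Set X)).index ≤ Nat.card Y := by
  refine Nat.card_le_card_of_injective (fun q : X ⧸ centralizer ({p} : Set X) => f q.out) fun a b h => ?_
  rw [← QuotientGroup.out_eq' a, ← QuotientGroup.out_eq' b]
  refine QuotientGroup.eq.2 (mem_centralizer_singleton_iff.2 ?_)
  have := hf _ _ h
  simp only [commutatorElement_def, mul_left_inj] at this
  calc a.out⁻¹ * b.out * p = a.out⁻¹ * (b.out * p * b.out⁻¹) * b.out := by group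
    _ = a.out⁻¹ * (a.out * p * a.out⁻¹) * b.out := by rw [this]
    _ = _ := by group

variable {F K : Type} [Field F] [Field K] [Algebra F K] [CharP K 2] {𝒟 : Fd F K}

omit [CharP K 2] in
theorem x3_zero : (x3 0 : Pt 𝒟) = 1 := rfl
omit [CharP K 2] in
theorem x1_zero : (x1 0 : Pt 𝒟) = 1 := rfl

omit [CharP K 2] in
theorem exw (h : 𝒟.LA) (d : K) : ∃ w : K, w ≠ 0 ∧ w ≠ d := by
  haveI := h.finK
  haveI := Fintype.ofFinite K
  obtain ⟨a, b, c, h1, h2, h3⟩ := (Fintype.two_lt_card_iff (α := K)).1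
    (by rw [← Nat.card_eq_fintype_card]; exact lt_of_lt_of_le (by norm_num) h.four)
  by_contra hn
  push Not at hn
  by_cases ha : a = 0
  · exact h3 ((hn b (fun e => h1 (ha.trans e.symm))).trans (hn c (fun e => h2 (ha.trans e.symm))).symm)
  by_cases hb : b = 0
  · exact h2 ((hn a ha).trans (hn c (fun e => h3 (hb.trans e.symm))).symm)
  · exact h1 ((hn a ha).trans (hn b hb).symm)

/-- elements outside `L` have at least three conjugates in `S` -/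
theorem big (h : 𝒟.LA) (hF : ∀ c : F, c = 0 ∨ c = 1) {p : Pt 𝒟} (hp : p ∉ L 𝒟) :
    ∃ s s' : Pt 𝒟, ⁅s, p⁆ ≠ 1 ∧ ⁅s', p⁆ ≠ 1 ∧ ⁅s, p⁆ ≠ ⁅s', p⁆ := by
  rcases hF p.t with ht | ht
  swap
  · obtain ⟨w, hw, -⟩ := exw h 0
    obtain ⟨w', hw', hne⟩ := exw h w
    have : ∀ w, ⁅(x0 w : Pt 𝒟), p⁆.d = w := fun w => by simp [comm_d, x0, ht]
    exact ⟨x0 w, x0 w', fun e => hw (by rw [← this w, e]; rfl), fun e => hw' (by rw [← this w', e]; rfl),
      fun e => hne (by rw [← this w', ← e, this])⟩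
  by_cases hv : p.v = 0
  swap
  · obtain ⟨b, hb⟩ := h.surj _ hv 1
    have h1 : ⁅(x5 1 : Pt 𝒟), p⁆.d = p.v := by simp [comm_d, x5]
    have h2 : ⁅(x2 b : Pt 𝒟), p⁆.d = 0 := by simp [comm_d, x2]
    refine ⟨x5 1, x2 b, fun e => hv (by rw [← h1, e]; rfl), fun e => ?_, fun e => hv (by rw [← h1, e, h2])⟩
    have := comm_A_a p (q := x2 b) rfl rfl
    rw [commutatorElement_eq_one_iff_commute.2 (commutatorElement_eq_one_iff_commute.1 e).symm] at this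
    simp [x2, hb, one_def] at this
  by_cases hd : p.d = 0
  swap
  · obtain ⟨b, hb⟩ := h.surj _ hd 1
    obtain ⟨w, hw, hwd⟩ := exw h p.d
    have h0 : 𝒟.cr w p.d ≠ 0 := fun e => by
      obtain ⟨c, hc⟩ := h.cr0 _ _ hw e
      rcases hF c with rfl | rfl
      · exact hd (by simpa using hc)
      · exact hwd (by simpa using hc.symm)
    have h1 : ⁅(x0 w : Pt 𝒟), p⁆.b = 𝒟.cr w p.d := comm_A_b _ hv ht
    have h2 : ⁅(x2 b : Pt 𝒟), p⁆ = x3 1 := by rw [comm_Q rfl hv]; simp [x2, hb, ht]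
    refine ⟨x0 w, x2 b, fun e => h0 (by rw [← h1, e]; rfl), fun e => ?_, fun e => h0 (by rw [← h1, e, h2]; rfl)⟩
    rw [h2] at e
    exact one_ne_zero (congrArg Pt.c e)
  have hb : p.b ≠ 0 := fun e => hp ⟨hv, e, hd, ht⟩
  obtain ⟨w, hw⟩ := h.surj _ hb 1
  rw [mul_comm] at hw
  have h1 : ⁅(x0 w : Pt 𝒟), p⁆.a = 1 := by rw [comm_A_a _ hv ht]; simp [x0, hw, hd]
  have h2 : ⁅(x4 w : Pt 𝒟), p⁆ = x3 1 := by rw [comm_Q rfl hv]; simp [x4, hw, hd, ht]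
  refine ⟨x0 w, x4 w, fun e => ?_, fun e => ?_, fun e => ?_⟩
  · rw [e] at h1
    exact zero_ne_one h1
  · rw [h2] at e
    exact one_ne_zero (congrArg Pt.c e)
  · rw [e, h2] at h1
    exact zero_ne_one h1

theorem comL {p q : Pt 𝒟} (hp : p.t = 0) (hq : q ∈ L 𝒟) : q * p = p * q := by
  have := comm_L p hq.1 hq.2.1 hq.2.2.1 hq.2.2.2
  rw [hp, zero_mul, x3_zero] at this
  exact (commutatorElement_eq_one_iff_mul_comm.1 this).symm

theorem comZ (p : Pt 𝒟) (c : F) : p * x3 c = x3 c * p := by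
  have := comm_L p (q := x3 c) rfl rfl rfl rfl
  rw [show (x3 c : Pt 𝒟).a = 0 from rfl, mul_zero, x3_zero] at this
  exact commutatorElement_eq_one_iff_mul_comm.1 this

theorem memC {p q : Pt 𝒟} (hq : q ∈ B 𝒟) (hp : p.t = 0) (h1 : 𝒟.T (p.v * q.b) = 0) (h2 : 𝒟.T (p.d * q.b) = 0) :
    p ∈ centralizer ({q} : Set (Pt 𝒟)) := by
  have := comm_RB hp hq.1 hq.2.1 hq.2.2
  rw [h1, h2, x3_zero, x1_zero, mul_one] at this
  exact mem_centralizer_singleton_iff.2 (commutatorElement_eq_one_iff_mul_comm.1 this)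

variable {G : Type u} [Group G] [Finite G] {e : Pt 𝒟 →* G}

omit [Finite G] in
theorem dA (h : St3 e) {y : G} (hy : y ∈ Δ e) (hA : y ∈ gA e) : y ∈ gL e := by
  obtain ⟨-, g, hg, hy⟩ := hy
  have e1 : g * (g⁻¹ * y * g) * g⁻¹ = y := by group
  by_cases hL : g ∈ 𝒩(gL e)
  · exact e1 ▸ conj_mem hL hy
  · have h1 := conj_mem (h.QZ hg) (h.q1 g hg hL _ hy (e1.symm ▸ hA))
    rw [e1] at h1
    exact (map_mono fun p hp => ⟨hp.1, hp.2.2.1, hp.2.2.2.1, hp.2.2.2.2⟩ : gZ e ≤ gL e) h1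

omit [Finite G] in
theorem lD {y : G} (hy : y ∈ gL e) (h1 : y ≠ 1) : y ∈ Δ e := ⟨h1, 1, one_mem _, by simpa using hy⟩

/-- `L` is strongly closed with respect to `C(u)` -/
theorem scl (h : Fu2 e) (hD : 𝒟.D4) (hB : BB e) {u : G} (hu : u ∈ gB e) (hn : u ∉ gL e) {y c : G} (hy : y ∈ gL e)
    (hc : c ∈ centralizer ({u} : Set G)) (hS : c * y * c⁻¹ ∈ gS e) : c * y * c⁻¹ ∈ gL e := by
  by_cases hy1 : y = 1
  · simp [hy1]
  by_contra hn'
  have hBQ : gB e ≤ gQ e := map_mono fun p hp => hp.1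
  have hZL : gZ e ≤ gL e := map_mono fun p hp => ⟨hp.1, hp.2.2.1, hp.2.2.2.1, hp.2.2.2.2⟩
  have hz : e (x3 1) ∈ gZ e := ⟨_, ⟨rfl, rfl, rfl, rfl, rfl⟩, rfl⟩
  have hz1 : e (x3 1) ≠ 1 := fun e1 => one_ne_zero (congrArg Pt.c (h.inj (e1.trans (map_one e).symm)))
  set z := e (x3 1) with hzd
  set O := centralizerPPrimeCore 2 z with hO
  have hO1 : ∀ x ∈ O, (orderOf x).Coprime 2 := by
    rintro _ ⟨x, hx, rfl⟩
    rw [coe_subtype, orderOf_coe]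
    exact Nat.Coprime.coprime_dvd_left ((pPrimeCore 2 _).orderOf_dvd_natCard hx) (pPrimeCore_coprime 2 _)
  have hO2 : centralizer {z} ≤ 𝒩(O) := by
    rw [hO, centralizerPPrimeCore, ← normal_subgroupOf_iff_le_normalizer (map_subtype_le _), subgroupOf,
      comap_map_eq_self_of_injective (subtype_injective _)]
    infer_instance
  have hSz : gS e ≤ centralizer {z} := by
    rintro _ ⟨p, rfl⟩
    rw [mem_centralizer_singleton_iff, hzd, ← map_mul, ← map_mul, comZ]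
  have hP : centralizer {z} ≤ 𝒩(O ⊔ gQ e) := (h.cz z hz hz1).trans (sup_le (le_norm_of_le le_sup_left)
    (le_norm_sup (inf_le_left.trans hO2) inf_le_right))
  have hSP : ∀ x ∈ gS e, x ∈ O ⊔ gQ e → x ∈ gQ e := fun x hx hx' => by
    obtain ⟨o, ho, q, hq, rfl⟩ := (mem_sup_nl ((map_le_range _ _).trans (hSz.trans hO2))).1 hx'
    have : o = 1 := eq_one_of_coprime_of_mem h.syl.2.1 (hO1 o ho)
      (by simpa using mul_mem hx (inv_mem (map_le_range e _ hq)))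
    rwa [this, one_mul]
  obtain ⟨r, hr, rfl⟩ := h.r2 h.nR z (hZL hz) hz1 y hy hy1
  obtain ⟨hl1, k, hk, hl⟩ := h.clo _ (lD hy hy1) c hS
  have hkL : k ∉ 𝒩(gL e) := fun hk' => hn' (by simpa [mul_assoc] using conj_mem hk' hl)
  have hlZ : k⁻¹ * (c * (r * z * r⁻¹) * c⁻¹) * k ∉ gZ e := fun h1 =>
    hn' (hZL (by simpa [mul_assoc] using conj_mem (h.QZ hk) h1))
  obtain ⟨r', hr', e1⟩ := h.r2 h.nR z (hZL hz) hz1 _ hl (fun e1 => hlZ (e1 ▸ one_mem _))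
  have hr'Z : r' ∉ 𝒩(gZ e) := fun h1 => hlZ (e1 ▸ conj_mem h1 hz)
  have hcu : c * u = u * c := mem_centralizer_singleton_iff.1 hc
  have hm : r'⁻¹ * k⁻¹ * c * r ∈ centralizer ({z} : Set G) := by
    rw [mem_centralizer_singleton_iff]
    calc r'⁻¹ * k⁻¹ * c * r * z = r'⁻¹ * (k⁻¹ * (c * (r * z * r⁻¹) * c⁻¹) * k) * k⁻¹ * c * r := by group
      _ = _ := by rw [← e1]; group
  have h2 : r'⁻¹ * (k⁻¹ * u * k) * r' ∈ O ⊔ gQ e := by
    have := conj_mem (hP hm) (mem_sup_right (S := O) (hBQ (conj_mem' (h.RB hD hr) hu)))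
    rwa [show r'⁻¹ * k⁻¹ * c * r * (r⁻¹ * u * r) * (r'⁻¹ * k⁻¹ * c * r)⁻¹ =
      r'⁻¹ * (k⁻¹ * (c * u * c⁻¹) * k) * r' by group, hcu, mul_inv_cancel_right] at this
  have huy : u * (r * z * r⁻¹) = r * z * r⁻¹ * u := by
    obtain ⟨p, hp, rfl⟩ := hu
    obtain ⟨q, hq, e2⟩ := hy
    rw [← e2, ← map_mul, ← map_mul, comL hp.2.2 hq]
  have h3 : ⁅k⁻¹ * u * k, k⁻¹ * (c * (r * z * r⁻¹) * c⁻¹) * k⁆ = 1 := by
    rw [commutatorElement_eq_one_iff_mul_comm]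
    calc k⁻¹ * u * k * (k⁻¹ * (c * (r * z * r⁻¹) * c⁻¹) * k) = k⁻¹ * (u * c) * (r * z * r⁻¹) * c⁻¹ * k := by group
      _ = k⁻¹ * c * (u * (r * z * r⁻¹)) * c⁻¹ * k := by rw [← hcu]; group
      _ = k⁻¹ * c * (r * z * r⁻¹) * c⁻¹ * (c * u) * c⁻¹ * k := by rw [huy]; group
      _ = _ := by rw [hcu]; group
  obtain ⟨p, hp, ep⟩ := conj_mem' hk (hBQ hu)
  obtain ⟨q, hq, eq⟩ := hl
  have hpR : e p ∈ gR e := by
    rw [← ep, ← eq, ← map_commutatorElement, comm_L p hq.1 hq.2.1 hq.2.2.1 hq.2.2.2] at h3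
    have h4 : p.t * q.a = 0 := congrArg Pt.c (h.inj (h3.trans (map_one e).symm))
    rcases mul_eq_zero.1 h4 with h5 | h5
    · exact ⟨p, h5, rfl⟩
    · exact absurd (eq ▸ ⟨q, ⟨hq.1, h5, hq.2.1, hq.2.2.1, hq.2.2.2⟩, rfl⟩) hlZ
  have hQQ : ∀ a ∈ gQ e, ∀ b ∈ gQ e, ⁅a, b⁆ ∈ gZ e := by
    rintro _ ⟨a, ha, rfl⟩ _ ⟨b, hb, rfl⟩
    rw [← map_commutatorElement, comm_Q ha hb]
    exact ⟨_, ⟨rfl, rfl, rfl, rfl, rfl⟩, rfl⟩
  rw [← ep] at h2
  have h5 := hSP _ (map_le_range e _ (conj_mem' hr' hpR)) h2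
  have h6 : e p ∈ gS e ⊓ 𝒞(gB e) := ⟨⟨p, rfl⟩, fun β hβ => by
    refine (commutatorElement_eq_one_iff_mul_comm.1 (h.r1 r'⁻¹ (inv_mem hr') (fun h7 => hr'Z (inv_mem_iff.1 h7)) _
      (hQQ _ ⟨p, hp, rfl⟩ _ (hBQ hβ)) ?_)).symm
    have := hQQ _ h5 _ (hBQ (conj_mem' (h.RB hD hr') hβ))
    simpa [commutatorElement_def, mul_assoc] using this⟩
  rw [h.cB, ep] at h6
  rcases hB k hk u hu h6 with h7 | h7
  · exact hn (hZL h7)
  · exact hkL h7

/-- `C_S(u)` is a Sylow subgroup of `C(u)` -/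
theorem sylC (h : Fu e) (h2 : Nat.card F = 2) (hF : ∀ c : F, c = 0 ∨ c = 1) {p : Pt 𝒟} (hp : p ∈ B 𝒟)
    (hn : p ∉ L 𝒟) : IsSylowIn 2 ((centralizer {p}).map e) (centralizer ({e p} : Set G)) := by
  haveI : Fact (Nat.Prime 2) := ⟨Nat.prime_two⟩
  haveI : Finite (Pt 𝒟) := Finite.of_injective e h.inj
  haveI : Finite F := Nat.finite_of_card_ne_zero (by omega)
  have hle : (centralizer {p}).map e ≤ centralizer ({e p} : Set G) := by
    rintro _ ⟨s, hs, rfl⟩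
    rw [mem_centralizer_singleton_iff, ← map_mul, ← map_mul, mem_centralizer_singleton_iff.1 hs]
  obtain ⟨T, hT, hle'⟩ := exists_isSylowIn_ge (h.syl.2.1.to_le (map_le_range e _)) hle
  obtain ⟨g, -, hg⟩ := h.syl.exists_conj_le hT.2.1 le_top
  rw [conj_smul_le_iff] at hg
  have hpT : e p ∈ T := hle' ⟨p, mem_centralizer_singleton_iff.2 rfl, rfl⟩
  obtain ⟨p', hp'⟩ := hg _ hpT
  have hn' : p' ∉ L 𝒟 := fun hL => by
    have h1 : e p' ≠ 1 := fun e1 => hn (by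
      rw [hp', conj_eq_one_iff] at e1
      rw [h.inj (e1.trans (map_one e).symm)]
      exact one_mem _)
    have h3 := h.clo _ (lD ⟨p', hL, rfl⟩ h1) g⁻¹ ⟨p, by rw [hp']; group⟩
    rw [hp', show g⁻¹ * (g * e p * g⁻¹) * g⁻¹⁻¹ = e p by group] at h3
    obtain ⟨q, hq, e1⟩ := dA h.toSt3 h3 ⟨p, ⟨hp.1, hp.2.2⟩, rfl⟩
    exact hn (h.inj e1 ▸ hq)
  obtain ⟨s, s', a1, a2, a3⟩ := big h.toLA hF hn'
  have i3 := idx3 a1 a2 a3
  have i4 : (centralizer ({p} : Set (Pt 𝒟))).index ≤ 4 := by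
    have := idx4 (p := p) (fun s => (⁅s, p⁆.a, ⁅s, p⁆.c)) fun a b hab => Pt.ext (by rw [comm_v, comm_v])
      (congrArg Prod.fst hab) (by rw [comm_A_b _ hp.1 hp.2.2, comm_A_b _ hp.1 hp.2.2, hp.2.1, Fd.cr_zero, Fd.cr_zero])
      (congrArg Prod.snd hab) (by simp [comm_d, hp.1, hp.2.2]) (by rw [comm_t, comm_t])
    rwa [Nat.card_prod, h2] at this
  have c1 : Nat.card T ≤ Nat.card (centralizer ({p'} : Set (Pt 𝒟))) := by
    rw [← card_cj g T, ← card_map_of_injective (f := e) h.inj]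
    refine card_le_of_le ?_
    rintro _ ⟨x, hx, rfl⟩
    obtain ⟨s, hs⟩ := hg x hx
    refine ⟨s, mem_centralizer_singleton_iff.2 (h.inj ?_), hs⟩
    rw [map_mul, map_mul, hs, hp']
    have := mem_centralizer_singleton_iff.1 (hT.1 hx)
    calc g * x * g⁻¹ * (g * e p * g⁻¹) = g * (x * e p) * g⁻¹ := by group
      _ = _ := by rw [this]; group
  obtain ⟨k, hk⟩ := card_dvd_of_le hle'
  have c2 := (centralizer ({p} : Set (Pt 𝒟))).card_mul_index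
  have c3 := (centralizer ({p'} : Set (Pt 𝒟))).card_mul_index
  have c4 := card_map_of_injective (K := centralizer ({p} : Set (Pt 𝒟))) h.inj
  have c5 : 0 < Nat.card (centralizer ({p} : Set (Pt 𝒟))) := Nat.card_pos
  have hk1 : k ≤ 1 := by
    by_contra hk1
    rw [c4] at hk
    nlinarith [Nat.mul_le_mul_left (Nat.card (centralizer ({p} : Set (Pt 𝒟)))) i4,
      Nat.mul_le_mul_left (Nat.card (centralizer ({p'} : Set (Pt 𝒟)))) i3,
      Nat.mul_le_mul_left (Nat.card (centralizer ({p} : Set (Pt 𝒟)))) (show 2 ≤ k by omega)]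
  rwa [eq_of_le_of_card_ge hle' (by rw [hk]; exact (Nat.mul_le_mul_left _ hk1).trans (mul_one _).le)]

theorem core (hG : GA.{u}) (h : Fu2 e) (hD : 𝒟.D4) (h2 : Nat.card F = 2) (hF : ∀ c : F, c = 0 ∨ c = 1) (hB : BB e)
    {p : Pt 𝒟} (hp : p ∈ B 𝒟) (hn : p ∉ L 𝒟) (ha : p.a = 0) :
    IsPConstrained 2 (centralizer ({e p} : Set G)) := by
  haveI : Fact (Nat.Prime 2) := ⟨Nat.prime_two⟩
  have hsyl := sylC h.toFu h2 hF hp hn
  have hb : p.b ≠ 0 := fun e => hn ⟨hp.1, e, hp.2.1, hp.2.2⟩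
  obtain ⟨x, y, hx, hy, hxy⟩ := h.ex2 hD _ hb
  have hx0 : x ≠ 0 := fun e => hb (by rw [← hxy, e, Fd.cr_comm, Fd.cr_zero])
  have hy0 : y ≠ 0 := fun e => hb (by rw [← hxy, e, Fd.cr_zero])
  have hn' : e p ∉ gL e := fun ⟨q, hq, e1⟩ => hn (h.inj e1 ▸ hq)
  set C := centralizer ({p} : Set (Pt 𝒟)) with hC
  set H := centralizer ({e p} : Set G) with hH
  let ψ : C →* H := (e.comp C.subtype).codRestrict H fun s => hsyl.1 ⟨s, s.2, rfl⟩
  have hr : ψ.range = (C.map e).subgroupOf H := by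
    ext g
    exact ⟨fun ⟨s, hs⟩ => ⟨s, s.2, congrArg Subtype.val hs⟩, fun ⟨s, hs, e1⟩ => ⟨⟨s, hs⟩, Subtype.ext e1⟩⟩
  have hLC : L 𝒟 ≤ C := fun q hq => mem_centralizer_singleton_iff.2 (comL hp.2.2 hq)
  have hV : ∀ g : H, g ∈ ((L 𝒟).subgroupOf C).map ψ ↔ (g : G) ∈ gL e := fun g =>
    ⟨fun ⟨s, hs, e1⟩ => ⟨s, hs, congrArg Subtype.val e1⟩, fun ⟨s, hs, e1⟩ => ⟨⟨s, hLC hs⟩, hs, Subtype.ext e1⟩⟩
  have m0 : ∀ w, 𝒟.T (w * p.b) = 0 → (x0 w : Pt 𝒟) ∈ C := fun w hw => memC hp rfl hw (by simp [x0])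
  have m5 : (x5 1 : Pt 𝒟) ∈ C := mem_centralizer_singleton_iff.2 (commutatorElement_eq_one_iff_mul_comm.1 (by
    rw [comm_Q rfl hp.1]; simp [x5, ha, hp.2.1, hp.2.2, x3_zero]))
  refine gaC hG ψ ((L 𝒟).subgroupOf C) (fun a b e1 => Subtype.ext (h.inj (congrArg Subtype.val e1))) ?_
    ⟨map_le_range _ _, fun v hv g hg => ?_⟩ (fun a ha b hb => Subtype.ext (comL hb.2.2.2 ha)) (fun l hl => ?_)
    (fun T₀ hT hi q hq => ?_) ?_
  · rw [hr]
    exact isSylowIn_top hsyl.toSylow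
  · rw [hr] at hg
    exact (hV _).2 (scl h hD hB ⟨p, hp, rfl⟩ hn' ((hV _).1 hv) g.2 (map_le_range e _ hg))
  · have mc : ∀ s : C, s.1.t = 0 → s ∈ 𝒞((L 𝒟).subgroupOf C) := fun s hs l hl => Subtype.ext (comL hs hl)
    obtain ⟨b, eb⟩ := h.surj _ hx0 l.1.a
    obtain ⟨b', eb'⟩ := h.surj _ hx0 l.1.c
    have m2 : ∀ b, (x2 b : Pt 𝒟) ∈ C := fun b => memC hp rfl (by simp [x2]) (by simp [x2])
    have m4 : (x4 x : Pt 𝒟) ∈ C := memC hp rfl (by simp [x4]) hx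
    have : l = ⁅(⟨_, m0 x hx⟩ : C), ⟨_, m2 b⟩⁆ * ⁅(⟨_, m4⟩ : C), ⟨_, m2 b'⟩⁆ := by
      apply Subtype.ext
      show l.1 = ⁅(x0 x : Pt 𝒟), x2 b⁆ * ⁅(x4 x : Pt 𝒟), x2 b'⁆
      rw [comm_RB rfl rfl rfl rfl, comm_RB rfl rfl rfl rfl]
      obtain ⟨l0, l2, l4, l5⟩ : l.1 ∈ L 𝒟 := hl
      ext <;> simp [x0, x1, x2, x3, x4, mul_v, mul_a, mul_b, mul_c, mul_d, mul_t, eb, eb', l0, l2, l4, l5,
        Fd.cr_zero, Fd.adj_zero, Fd.N_zero]
    rw [this]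
    exact mul_mem (commutator_mem_commutator (mc _ rfl) (mc _ rfl)) (commutator_mem_commutator (mc _ rfl) (mc _ rfl))
  · by_contra hqL
    have cl : ∀ s : C, ∀ t ∈ T₀, ⁅s, t⁆ ∈ T₀ := fun s t ht => mul_mem (hT.conj_mem t ht s) (inv_mem ht)
    have s3 : ∀ t ∈ T₀, t.1.v = 0 → t.1.d = 0 → t.1.t = 0 → t.1.b = 0 := fun t ht t0 t4 t5 =>
      (hi t ht (Subtype.ext (show t.1 * t.1 = 1 by rw [sq_Q t0, t4, t5]; simp [x3_zero]))).2.1
    have s2 : ∀ t ∈ T₀, t.1.v = 0 → t.1.t = 0 → t.1.d = 0 := fun t ht t0 t5 => by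
      have k : ∀ w, w ≠ 0 → 𝒟.T (w * p.b) = 0 → t.1.d ≠ 0 → t.1.d = w := fun w hw0 hw hd => by
        have := s3 _ (cl ⟨_, m0 w hw⟩ t ht) (comm_v _ _) (by
          show ⁅(x0 w : Pt 𝒟), t.1⁆.d = 0
          simp [comm_d, x0, t5]) (comm_t _ _)
        obtain ⟨c, hc⟩ := h.cr0 w t.1.d hw0 ((comm_A_b (x0 w) t0 t5).symm.trans this)
        rcases hF c with rfl | rfl
        · exact absurd (by simpa using hc) hd
        · simpa using hc
      by_contra hd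
      exact hb (by rw [← hxy, ← k x hx0 hx hd, ← k y hy0 hy hd, Fd.cr_self])
    have q5 : q.1.t = 0 := by
      have := s2 _ (cl ⟨_, m0 x hx⟩ q hq) (comm_v _ _) (comm_t _ _)
      change ⁅(x0 x : Pt 𝒟), q.1⁆.d = 0 at this
      simpa [comm_d, x0, hx0] using this
    have q0 : q.1.v = 0 := by
      have := s2 _ (cl ⟨_, m5⟩ q hq) (comm_v _ _) (comm_t _ _)
      change ⁅(x5 1 : Pt 𝒟), q.1⁆.d = 0 at this
      simpa [comm_d, x5] using this
    exact hqL ⟨q0, s3 q hq q0 (s2 q hq q0 q5) q5, s2 q hq q0 q5, q5⟩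
  · have hz : e (x3 1) ∈ gZ e := ⟨_, ⟨rfl, rfl, rfl, rfl, rfl⟩, rfl⟩
    have hz1 : e (x3 1) ≠ 1 := fun e1 => one_ne_zero (congrArg Pt.c (h.inj (e1.trans (map_one e).symm)))
    have hzL : e (x3 1) ∈ gL e := ⟨_, ⟨rfl, rfl, rfl, rfl⟩, rfl⟩
    have hW : gL e ⊔ zpowers (e p) ≤ gS e := sup_le (map_le_range _ _) (zpowers_le.2 ⟨p, rfl⟩)
    have e1 : (𝒞(((L 𝒟).subgroupOf C).map ψ)).map H.subtype = 𝒞(gL e ⊔ zpowers (e p)) := by
      rw [cent_sup]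
      ext g
      constructor
      · rintro ⟨g, hg, rfl⟩
        refine ⟨fun l hl => ?_, ?_⟩
        · obtain ⟨s, hs, rfl⟩ := hl
          exact congrArg Subtype.val (hg (ψ ⟨s, hLC hs⟩) ⟨_, hs, rfl⟩)
        · rintro _ ⟨n, rfl⟩
          exact (Commute.zpow_right (mem_centralizer_singleton_iff.1 g.2) n).symm
      · rintro ⟨h1, h3⟩
        exact ⟨⟨g, mem_centralizer_singleton_iff.2 (h3 _ (mem_zpowers _)).symm⟩,
          fun l hl => Subtype.ext (h1 _ ((hV l).1 hl)), rfl⟩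
    rw [isPConstrained_iff_map_subtype, e1]
    refine isPConstrained_centralizer_of_le (h.syl.2.1.to_le hW) (hW.trans ?_)
      (centralizer_le (Set.singleton_subset_iff.2 (mem_sup_left hzL))) (h.con _ hz hz1)
    rintro _ ⟨s, rfl⟩
    rw [mem_centralizer_singleton_iff, ← map_mul, ← map_mul, comZ]

end CL.SY.Q3x

namespace CL.SY

open Subgroup Cfsg CL.Even CL.Loc Pt
open scoped commutatorElement

universe u

theorem q3' (hG : GA.{u}) : Q3.{u} := by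
  intro G _ _ F K _ _ _ _ 𝒟 e h hD h2 hB u ⟨p, hp, hu⟩ hn
  subst hu
  haveI : Fact (Nat.Prime 2) := ⟨Nat.prime_two⟩
  have hF : ∀ c : F, c = 0 ∨ c = 1 := fun c => by
    obtain ⟨y, -, hy⟩ := (Nat.card_eq_two_iff' (0 : F)).1 h2
    by_cases hc : c = 0
    · exact Or.inl hc
    · exact Or.inr ((hy c hc).trans (hy 1 one_ne_zero).symm)
  have hb : p.b ≠ 0 := fun e => hn ⟨p, ⟨hp.1, e, hp.2.1, hp.2.2⟩, rfl⟩
  obtain ⟨w, hw⟩ := h.surj _ hb p.a
  rw [mul_comm] at hw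
  have e1 : x0 w * p * (x0 w)⁻¹ = x1 p.a * p := by
    have := comm_RB (p := x0 w) (q := p) rfl hp.1 hp.2.1 hp.2.2
    rw [show (x0 w : Pt 𝒟).v = w from rfl, show (x0 w : Pt 𝒟).d = 0 from rfl, hw, zero_mul, map_zero, Q3x.x3_zero,
      mul_one] at this
    rw [← this, commutatorElement_def, inv_mul_cancel_right]
  have hx : (x1 p.a : Pt 𝒟) ∈ L 𝒟 := ⟨rfl, rfl, rfl, rfl⟩
  haveI := 𝒟.charF
  have := Q3x.core hG h hD h2 hF hB (p := x1 p.a * p) (mul_mem (show x1 p.a ∈ B 𝒟 from ⟨rfl, rfl, rfl⟩) hp)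
    (fun hL => hn ⟨p, (mul_mem_cancel_left hx).1 hL, rfl⟩)
    (by simp [mul_a, x1, hp.1, Fd.N_zero, CharTwo.add_self_eq_zero])
  rw [isPConstrained_subgroup_iff_map (MulAut.conj (e (x0 w))).toMonoidHom
    (by rw [(MonoidHom.ker_eq_bot_iff _).2 (MulAut.conj _).injective]; simp)]
  have e2 : cj (e (x0 w)) (centralizer ({e p} : Set G)) = centralizer {e (x1 p.a * p)} := by
    ext g
    rw [mem_cj, mem_centralizer_singleton_iff, mem_centralizer_singleton_iff, ← e1, map_mul, map_mul, map_inv]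
    generalize e (x0 w) = a
    constructor
    · intro h1
      calc g * (a * e p * a⁻¹) = a * (a⁻¹ * g * a * e p) * a⁻¹ := by group
        _ = _ := by rw [h1]; group
    · intro h1
      calc a⁻¹ * g * a * e p = a⁻¹ * (g * (a * e p * a⁻¹)) * a := by group
        _ = _ := by rw [h1]; group
  rwa [e2]

end CL.SY
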