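/-
Project SY: working properties of essential subgroups.
-/
import Cfsg.Agent.SY.Defs
import Cfsg.Agent.Even.Amb2

set_option autoImplicit false

namespace CL.SY

open Subgroup Cfsg CL.Even CL.Grp
open scoped commutatorElement

universe u

namespace SETx

/-- two involutions generate a dihedral group -/
theorem dih {Q : Type*} [Group Q] [Finite Q] {a b : Q} (ha : a * a = 1) (hb : b * b = 1) :
    (∃ k : ℕ, (a * b) ^ k ≠ 1 ∧ (a * b) ^ k * (a * b) ^ k = 1 ∧ a * (a * b) ^ k * a⁻¹ * ((a * b) ^ k)⁻¹ = 1 ∧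
      b * (a * b) ^ k * b⁻¹ * ((a * b) ^ k)⁻¹ = 1) ∨
    ∃ n : ℕ, Odd n ∧ (a * b) ^ n = 1 ∧ ∃ k : ℕ, (a * b) ^ k * a * ((a * b) ^ k)⁻¹ * b⁻¹ = 1 := by
  have ai : a⁻¹ = a := inv_eq_of_mul_eq_one_right ha
  have bi : b⁻¹ = b := inv_eq_of_mul_eq_one_right hb
  have e1 : a * (a * b) * a⁻¹ = (a * b)⁻¹ := by rw [← mul_assoc, ha, one_mul, mul_inv_rev, bi]
  have e2 : b * (a * b) * b⁻¹ = (a * b)⁻¹ := by rw [← mul_assoc, mul_inv_cancel_right, mul_inv_rev, ai, bi]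
  have e3 : b = (a * b)⁻¹ * a := by group; rw [zpow_neg_one, bi]
  generalize a * b = c at e1 e2 e3 ⊢
  have p1 : ∀ k : ℕ, a * c ^ k * a⁻¹ = (c ^ k)⁻¹ := fun k => by rw [← conj_pow, e1, inv_pow]
  have p2 : ∀ k : ℕ, b * c ^ k * b⁻¹ = (c ^ k)⁻¹ := fun k => by rw [← conj_pow, e2, inv_pow]
  have hpos := orderOf_pos c
  have h1 := pow_orderOf_eq_one c
  rcases Nat.even_or_odd (orderOf c) with ⟨k, hk⟩ | ⟨k, hk⟩
  · have h2 : c ^ k * c ^ k = 1 := by rw [← pow_add, ← hk, h1]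
    refine .inl ⟨k, pow_ne_one_of_lt_orderOf (by omega) (by omega), h2, ?_, ?_⟩
    · rw [p1, ← mul_inv_rev, h2, inv_one]
    · rw [p2, ← mul_inv_rev, h2, inv_one]
  · refine .inr ⟨_, ⟨k, hk⟩, h1, k, ?_⟩
    rw [hk, pow_succ, two_mul, pow_add] at h1
    rw [← p1, e3, ← h1, ai]
    calc c ^ k * a * (a * c ^ k * a) * (c⁻¹ * a)⁻¹ = c ^ k * (a * a) * c ^ k * c := by
          rw [mul_inv_rev, inv_inv]; group
      _ = c ^ k * c ^ k * c := by rw [ha, mul_one]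

variable {G : Type u} [Group G]

theorem comm_pow {k x : G} (h : Commute k ⁅k, x⁆) (m : ℕ) : ⁅k ^ m, x⁆ = ⁅k, x⁆ ^ m := by
  induction m with
  | zero => simp
  | succ m ih =>
    rw [pow_succ', show ⁅k * k ^ m, x⁆ = k * ⁅k ^ m, x⁆ * k⁻¹ * ⁅k, x⁆ by simp only [commutatorElement_def]; group,
      ih, (h.pow_right m).eq, mul_inv_cancel_right, pow_succ]

/-- the elements of `W` acting trivially on `E ∩ C` modulo `D` -/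
def stab (W E C D : Subgroup G) (hD : W ≤ 𝒩(D)) : Subgroup G where
  carrier := {k | k ∈ W ∧ ∀ x ∈ E, x ∈ C → ⁅k, x⁆ ∈ D}
  one_mem' := ⟨one_mem _, fun y _ _ => by simp⟩
  mul_mem' := fun {a b} ha hb => ⟨mul_mem ha.1 hb.1, fun y hy hy' => by
    rw [show ⁅a * b, y⁆ = a * ⁅b, y⁆ * a⁻¹ * ⁅a, y⁆ by simp only [commutatorElement_def]; group]
    exact mul_mem (conj_mem (hD ha.1) (hb.2 y hy hy')) (ha.2 y hy hy')⟩
  inv_mem' := fun {a} ha => ⟨inv_mem ha.1, fun y hy hy' => by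
    rw [show ⁅a⁻¹, y⁆ = a⁻¹ * ⁅a, y⁆⁻¹ * a⁻¹⁻¹ by simp only [commutatorElement_def]; group]
    exact conj_mem (hD (inv_mem ha.1)) (inv_mem (ha.2 y hy hy'))⟩

theorem norm_stab {W E C D : Subgroup G} (hD : W ≤ 𝒩(D)) (hE : W ≤ 𝒩(E)) (hC : W ≤ 𝒩(C)) :
    W ≤ 𝒩(stab W E C D hD) := le_norm_of_cj_le fun g hg => by
  rintro _ ⟨x, hx, rfl⟩
  refine ⟨mul_mem (mul_mem hg hx.1) (inv_mem hg), fun y hy hy' => ?_⟩
  have := conj_mem (hD hg) (hx.2 _ (conj_mem' (hE hg) hy) (conj_mem' (hC hg) hy'))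
  simpa [commutatorElement_def, mul_assoc] using this

theorem layer {E C D : Subgroup G} (hE : IsPGroup 2 E) {k : G} (hk : k ∈ 𝒩(E)) (ho : (orderOf k).Coprime 2)
    (h1 : ∀ x ∈ E, x ∈ D → Commute k x) (h2 : ∀ x ∈ E, x ∈ C → ⁅k, x⁆ ∈ D) : ∀ x ∈ E, x ∈ C → Commute k x := by
  intro x hx hx'
  have hy : ⁅k, x⁆ ∈ E := mul_mem (conj_mem hk hx) (inv_mem hx)
  have h3 := comm_pow (h1 _ hy (h2 x hx hx')) (orderOf k)
  rw [pow_orderOf_eq_one, commutatorElement_one_left] at h3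
  exact commutatorElement_eq_one_iff_commute.1 (eq_one_of_coprime_of_mem hE
    (ho.coprime_dvd_left (orderOf_dvd_of_pow_eq_one h3.symm)) hy)

variable [Finite G] {S E H : Subgroup G}

theorem K_le {K H' : Subgroup G} {t : G} (hK : K ≤ 𝒩(E)) (htN : t ∈ 𝒩(E)) (ht : ∃ k, t ^ 2 ^ k = 1)
    (htK : t ∈ 𝒩(K)) (hC : 𝒞(E) ≤ H') (ho : ∀ k ∈ K, (orderOf k).Coprime 2 → k ∈ 𝒞(E))
    (key : ∀ P : Subgroup G, P ≤ 𝒩(E) → IsPGroup 2 P → t ∈ P → P ≤ H') : K ≤ H' := by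
  obtain ⟨k, hk⟩ := ht
  have hz := isPGroup_zpowers hk
  obtain ⟨P, hP, hle⟩ := exists_isSylowIn_ge hz (le_sup_left : zpowers t ≤ zpowers t ⊔ K)
  have h1 := syl_sup_res hP
  rw [res_sup_eq_of_isPGroup hz (zpowers_le.2 htK)] at h1
  refine le_sup_right.trans (h1.ge.trans (sup_le ?_ ((res_le_of ho).trans hC)))
  exact key P (hP.le.trans (sup_le (zpowers_le.2 htN) hK)) hP.isPGroup (hle (mem_zpowers t))

theorem pair (hE : IsPGroup 2 E) {t y : G} (ht : t ∈ 𝒩(E)) (hy : y ∈ 𝒩(E)) (ht2 : t * t ∈ E) (hy2 : y * y ∈ E)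
    (hc : t * y * t⁻¹ * y⁻¹ ∈ E) : ∃ P : Subgroup G, P ≤ 𝒩(E) ∧ IsPGroup 2 P ∧ t ∈ P ∧ y ∈ P := by
  have two : ∀ x : G, x * x ∈ E → IsPGroup 2 (zpowers x) := fun x hx => by
    obtain ⟨k, hk⟩ := isPGroup_iff_forall.1 hE _ hx
    exact isPGroup_zpowers (k := k + 1) (by rw [pow_succ', pow_mul, sq, hk])
  refine ⟨zpowers t ⊔ (zpowers y ⊔ E), sup_le (zpowers_le.2 ht) (sup_le (zpowers_le.2 hy) le_normalizer),
    isPGroup_sup (two t ht2) (isPGroup_sup (two y hy2) hE (zpowers_le.2 hy)) (zpowers_le.2 (mem_norm_of_cj_le ?_)),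
    mem_sup_left (mem_zpowers t), mem_sup_right (mem_sup_left (mem_zpowers y))⟩
  rw [cj_sup, cj_eq ht, MonoidHom.map_zpowers]
  refine sup_le (zpowers_le.2 ?_) le_sup_right
  have := mul_mem (mem_sup_right hc) (mem_sup_left (mem_zpowers y) : y ∈ zpowers y ⊔ E)
  rwa [inv_mul_cancel_right] at this

variable (h : Ess S E H)
include h

omit [Finite G] in
theorem pE : IsPGroup 2 E := h.pS.to_le h.le

theorem key {P : Subgroup G} (hPN : P ≤ 𝒩(E)) (hP : IsPGroup 2 P) {t : G} (ht : t ∈ P) (htH : t ∈ H)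
    (htE : t ∉ E) : P ≤ H := by
  obtain ⟨k, hk, hle⟩ := h.syl.exists_conj_le hP hPN
  have h1 : ∀ x ∈ P, k * x * k⁻¹ ∈ H := fun x hx => h.TH ((conj_smul_le_iff k P _).1 hle x hx)
  have h2 : k⁻¹ ∈ H := by
    by_contra h2
    exact htE (h.se _ (inv_mem hk) h2 t htH (isPGroup_iff_forall.1 hP t ht) (by rw [inv_inv]; exact h1 t ht))
  intro x hx
  have := mul_mem (mul_mem h2 (h1 x hx)) (inv_mem h2)
  simpa [mul_assoc] using this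

theorem key' {g : G} (hg : g ∈ 𝒩(E)) {P : Subgroup G} (hPN : P ≤ 𝒩(E)) (hP : IsPGroup 2 P) {t : G}
    (ht : g * t * g⁻¹ ∈ P) (htH : t ∈ H) (htE : t ∉ E) : P ≤ cj g H :=
  le_cj_iff.2 (key h (cj_le_of_mem hPN (inv_mem hg)) (isPGroup_cj hP _) (mem_cj.2 (by rwa [inv_inv])) htH htE)

omit [Finite G] in
theorem iv {s : G} (hs : s ∈ S) (hN : s ∈ 𝒩(E)) (hE : s ∉ E) : ∃ n : ℕ, Iv S E (s ^ n) := by
  obtain ⟨k, hk⟩ := isPGroup_iff_forall.1 h.pS s hs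
  have h1 : s ^ 2 ^ k ∈ E := hk ▸ one_mem E
  clear hk
  induction k generalizing s with
  | zero => exact (hE (by simpa using h1)).elim
  | succ k ih =>
    by_cases h2 : s * s ∈ E
    · exact ⟨1, by rw [pow_one]; exact ⟨hs, hN, hE, h2⟩⟩
    · obtain ⟨n, hn⟩ := ih (mul_mem hs hs) (mul_mem hN hN) h2 (by rwa [← sq, ← pow_mul, ← pow_succ'])
      exact ⟨2 * n, by rwa [pow_mul, sq]⟩

theorem od {g t t₁ : G} (hg : g ∈ 𝒩(E)) (hgH : g ∉ H) (i : Iv S E t) (i₁ : Iv S E t₁) :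
    (∃ n, Odd n ∧ (t * (g * t₁ * g⁻¹)) ^ n ∈ E) ∧
      ∃ w ∈ closure ({t, g * t₁ * g⁻¹} : Set G), w * t * w⁻¹ * (g * t₁ * g⁻¹)⁻¹ ∈ E := by
  have hN' : g * t₁ * g⁻¹ ∈ 𝒩(E) := mul_mem (mul_mem hg i₁.norm) (inv_mem hg)
  have h2' : g * t₁ * g⁻¹ * (g * t₁ * g⁻¹) ∈ E := by
    have := conj_mem hg i₁.sq
    rwa [← conj_mul] at this
  have hn : (E.subgroupOf 𝒩(E)).Normal := inferInstance
  let φ := QuotientGroup.mk' (E.subgroupOf 𝒩(E))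
  have hφ : ∀ x : 𝒩(E), φ x = 1 ↔ (x : G) ∈ E := fun x => QuotientGroup.eq_one_iff x
  have d := dih (a := φ ⟨t, i.norm⟩) (b := φ ⟨_, hN'⟩) (by rw [← map_mul, hφ]; exact i.sq)
    (by rw [← map_mul, hφ]; exact h2')
  simp only [← map_mul, ← map_pow, ← map_inv, Ne, hφ, Subgroup.coe_mul, Subgroup.coe_pow, Subgroup.coe_inv] at d
  rcases d with ⟨k, k1, k2, k3, k4⟩ | ⟨n, hn, k1, k, k2⟩
  · exfalso
    have hy : (t * (g * t₁ * g⁻¹)) ^ k ∈ 𝒩(E) := pow_mem (mul_mem i.norm hN') k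
    generalize (t * (g * t₁ * g⁻¹)) ^ k = y at k1 k2 k3 k4 hy
    obtain ⟨P, a1, a2, a3, a4⟩ := pair (pE h) i.norm hy i.sq k2 k3
    obtain ⟨P', b1, b2, b3, b4⟩ := pair (pE h) hN' hy h2' k2 k4
    exact k1 (h.se g hg hgH y (key h a1 a2 a3 (h.TH ⟨i.mem, i.norm⟩) i.out a4) (isPGroup_iff_forall.1 a2 y a4)
      (mem_cj.1 (key' h hg b1 b2 b3 (h.TH ⟨i₁.mem, i₁.norm⟩) i₁.out b4)))
  · exact ⟨⟨n, hn, k1⟩, _, pow_mem (mul_mem (subset_closure (by simp)) (subset_closure (by simp))) k, k2⟩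

theorem cnj {t t₁ : G} (i : Iv S E t) (i₁ : Iv S E t₁) : ∃ w ∈ 𝒩(E), w * t * w⁻¹ * t₁⁻¹ ∈ E := by
  obtain ⟨g, hg, hgH⟩ := h.ne
  obtain ⟨-, w, hw, k⟩ := od h hg hgH i i₁
  have hwN : w ∈ 𝒩(E) := (closure_le 𝒩(E)).2 (Set.insert_subset i.norm
    (Set.singleton_subset_iff.2 (mul_mem (mul_mem hg i₁.norm) (inv_mem hg)))) hw
  refine ⟨g⁻¹ * w, mul_mem (inv_mem hg) hwN, ?_⟩
  have := conj_mem' hg k
  rwa [show g⁻¹ * (w * t * w⁻¹ * (g * t₁ * g⁻¹)⁻¹) * g = g⁻¹ * w * t * (g⁻¹ * w)⁻¹ * t₁⁻¹ by group] at this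

theorem ker {M : Subgroup G} {s t : G} (hEM : E ≤ M) (hN : 𝒩(E) ≤ 𝒩(M)) (hsM : s ∈ M) (hs : s ∈ S)
    (hsN : s ∈ 𝒩(E)) (hsE : s ∉ E) (i : Iv S E t) : t ∈ M := by
  obtain ⟨n, j⟩ := iv h hs hsN hsE
  obtain ⟨w, hw, k⟩ := cnj h j i
  exact inv_mem_iff.1 ((mul_mem_cancel_left (conj_mem (hN hw) (pow_mem hsM n))).1 (hEM k))

theorem chainW {W C₁ C₂ C₃ C₄ : Subgroup G} {g t t₁ s : G} (hW : W ≤ 𝒩(E)) (hg : g ∈ 𝒩(E)) (hgH : g ∉ H)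
    (ht : t ∈ S) (htE : t ∉ E) (ht₁ : t₁ ∈ S) (ht₁N : t₁ ∈ 𝒩(E)) (ht₁E : t₁ ∉ E) (htW : t ∈ W)
    (ht' : g * t₁ * g⁻¹ ∈ W) (n1 : W ≤ 𝒩(C₁)) (n2 : W ≤ 𝒩(C₂)) (n3 : W ≤ 𝒩(C₃)) (n4 : W ≤ 𝒩(C₄)) (hs : s ∈ W)
    (hs2 : ∃ k, s ^ 2 ^ k = 1) (c0 : ∀ x ∈ E, x ∈ C₁ → Commute s x) (c1 : ∀ x ∈ E, x ∈ C₂ → ⁅s, x⁆ ∈ C₁)
    (c2 : ∀ x ∈ E, x ∈ C₃ → ⁅s, x⁆ ∈ C₂) (c3 : ∀ x ∈ E, x ∈ C₄ → ⁅s, x⁆ ∈ C₃) (c4 : ∀ x ∈ E, ⁅s, x⁆ ∈ C₄) :
    s ∈ E := by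
  have n0 : W ≤ 𝒩(⊥) := normalizer_eq_top (⊥ : Subgroup G) ▸ le_top
  have n5 : W ≤ 𝒩(⊤) := le_norm_of_le le_top
  obtain ⟨K, hK⟩ : ∃ K : Subgroup G, K = stab W E C₁ ⊥ n0 ⊓ (stab W E C₂ C₁ n1 ⊓ (stab W E C₃ C₂ n2 ⊓
    (stab W E C₄ C₃ n3 ⊓ stab W E ⊤ C₄ n4))) := ⟨_, rfl⟩
  have hWK : W ≤ 𝒩(K) := hK ▸ le_norm_inf (norm_stab n0 hW n1) (le_norm_inf (norm_stab n1 hW n2)
    (le_norm_inf (norm_stab n2 hW n3) (le_norm_inf (norm_stab n3 hW n4) (norm_stab n4 hW n5))))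
  have hKN : K ≤ 𝒩(E) := fun k hk => hW (hK ▸ hk).1.1
  have hsK : s ∈ K := hK ▸ ⟨⟨hs, fun x hx hx' => mem_bot.2 (commutatorElement_eq_one_iff_commute.2 (c0 x hx hx'))⟩,
    ⟨hs, c1⟩, ⟨hs, c2⟩, ⟨hs, c3⟩, hs, fun x hx _ => c4 x hx⟩
  have ho : ∀ k ∈ K, (orderOf k).Coprime 2 → k ∈ 𝒞(E) := fun k hk ho => by
    have hkN := hKN hk
    rw [hK] at hk
    obtain ⟨a0, a1, a2, a3, a4⟩ := hk
    have l := layer (pE h) hkN ho (layer (pE h) hkN ho (layer (pE h) hkN ho (layer (pE h) hkN ho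
      (fun x hx hx' => commutatorElement_eq_one_iff_commute.1 (mem_bot.1 (a0.2 x hx hx'))) a1.2) a2.2) a3.2) a4.2
    exact mem_centralizer_iff.2 fun x hx => (l x hx trivial).eq.symm
  have h1 : K ≤ H := K_le hKN (hW htW) (isPGroup_iff_forall.1 h.pS t ht) (hWK htW) h.CH ho
    fun P a b c => key h a b c (h.TH ⟨ht, hW htW⟩) htE
  have h2 : K ≤ cj g H := K_le hKN (hW ht') ((isPGroup_iff_forall.1 h.pS t₁ ht₁).imp fun k hk => by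
      rw [conj_pow, hk, mul_one, mul_inv_cancel]) (hWK ht')
    (fun x hx => mem_cj.2 (h.CH (conj_mem' (norm_le_norm_cent E hg) hx))) ho
    fun P a b c => key' h hg a b c (h.TH ⟨ht₁, ht₁N⟩) ht₁E
  exact h.se g hg hgH s (h1 hsK) hs2 (mem_cj.1 (h2 hsK))

end SETx

theorem set : SET.{u} := fun G _ _ S E H h =>
  { h with
    od := SETx.od h
    cnj := SETx.cnj h
    ker := SETx.ker h
    chainW := SETx.chainW h
    chain := fun n1 n2 n3 n4 hs hsN => by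
      obtain ⟨g, hg, hgH⟩ := h.ne
      obtain ⟨t, ht, htE⟩ := SetLike.exists_of_lt
        (lt_inf_normalizer_of_isPGroup h.pS (lt_of_le_not_ge h.le h.lt))
      exact SETx.chainW h le_rfl hg hgH ht.1 htE ht.1 ht.2 htE ht.2 (mul_mem (mul_mem hg ht.2) (inv_mem hg))
        n1 n2 n3 n4 hsN (isPGroup_iff_forall.1 h.pS _ hs) }

end CL.SY
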